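import Cfsg.Agent.Lib.Helper5.UC.Tables
import Cfsg.Agent.Lib.Helper5.Chev.CmE8
import Cfsg.Agent.Lib.Helper5.St.CkE8
import Mathlib

/-!
# The data for the universality of Steinberg's cover: type E8 (helper5)
-/

set_option autoImplicit false
set_option maxRecDepth 100000

namespace Cfsg.Agent.Lib.Helper5.UC.DtE8

open Cfsg.Lie Cfsg.Agent.Lib.Helper5.Chev Cfsg.Agent.Lib.Helper5.St Cfsg.Agent.Lib.Helper5.Tw

theorem tgt : tgtb DataE8.fd = true := by decide +kernel

theorem pf : pfb chevE8 = true := by decide +kernel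

theorem cw : CommW DataE8.fd chevE8 BsE8.Bs :=
  commW_of_noThree DataE8.agrees HsE8.reflBs' (noThree_of_check DataE8.agrees CmE8.noThree)

theorem sr : ∀ j < chevE8.rank, srb chevE8 j = true ∨ (chevE8 = chevB2 ∧ j = 1) := by
  intro j hj
  have hj' : j < 8 := hj
  interval_cases j
  · exact Or.inl (by decide +kernel)
  · exact Or.inl (by decide +kernel)
  · exact Or.inl (by decide +kernel)
  · exact Or.inl (by decide +kernel)
  · exact Or.inl (by decide +kernel)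
  · exact Or.inl (by decide +kernel)
  · exact Or.inl (by decide +kernel)
  · exact Or.inl (by decide +kernel)

theorem rows : ∀ r0 ∈ CmE8.base1, r0 < chevE8.nroots ∧ ∃ (g2 : ℕ) (base2 : List ℕ) (fuel2 : ℕ),
    reachFb DataE8.fd BsE8.Bs g2 base2 r0 fuel2 = true ∧
    ∀ s ∈ base2, s < chevE8.nroots ∧ (s = r0 ∨ s = chevE8.neg r0 ∨ ∃ L : List ℕ,
      (∀ i ∈ L, i < chevE8.rank) ∧ chevE8.nroots / 2 ≤ wW' BsE8.Bs L r0 ∧
        chevE8.nroots / 2 ≤ wW' BsE8.Bs L s) := by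
  intro r0 hr0
  simp only [CmE8.base1, List.mem_cons, List.not_mem_nil, or_false] at hr0
  rcases hr0 with rfl
  · refine ⟨by decide, CmE8.g2_239, CmE8.base2_239, 33, CmE8.rb2_239, ?_⟩
    intro s hs
    simp only [CmE8.base2_239, List.mem_cons, List.not_mem_nil, or_false] at hs
    rcases hs with rfl | rfl | rfl | rfl | rfl
    · exact ⟨by decide, Or.inl rfl⟩
    · exact ⟨by decide, Or.inr (Or.inl (by decide +kernel))⟩
    · exact ⟨by decide, Or.inr (Or.inr ⟨[6, 5, 4, 3, 1, 2, 0, 3, 2, 4, 3, 1, 5, 4, 3, 2, 0, 6, 5, 4, 3, 1, 2, 3, 4, 5, 6, 7], by decide, by decide +kernel, by decide +kernel⟩)⟩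
    · exact ⟨by decide, Or.inr (Or.inr ⟨[0, 2, 3, 1, 4, 3, 2, 0, 5, 4, 3, 1, 2, 3, 4, 5, 6], by decide, by decide +kernel, by decide +kernel⟩)⟩
    · exact ⟨by decide, Or.inr (Or.inr ⟨[], by decide, by decide +kernel, by decide +kernel⟩)⟩

/-- all the data -/
theorem uctx (K : Type*) [Field K] :
    UCtx K chevE8 DataE8.fd BsE8.Bs HsE8.gH HsE8.baseH 29 where
  C := ⟨by simp, DataE8.agrees, HsE8.reflBs', HsE8.rbH, HsE8.base_simple,
    goodL_of_check DataE8.agrees _ CkE8.good, fun hadd i hi => CkE8.facts hadd i hi⟩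
  pf := pf
  cw := cw
  gt := tgt
  rows := ⟨CmE8.g1, CmE8.base1, 57, CmE8.rb1, rows⟩
  sr := sr

end Cfsg.Agent.Lib.Helper5.UC.DtE8
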