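import Cfsg.Agent.Lib.Helper5.UC.Main
import Cfsg.Agent.Lib.Helper5.St.Main3
import Cfsg.Agent.Lib.Helper5.St.R3Iso
import Mathlib

/-!
# Stem extensions of the Chevalley groups of type `G₂`, `F₄`, `E₈` over a finite field with more
than four elements are trivial (helper5)
-/

set_option autoImplicit false

namespace Cfsg.Agent.Lib.Helper5.UC

open Cfsg.Lie Cfsg.Agent.Lib.Helper5.Chev Cfsg.Agent.Lib.Helper5.St Cfsg.Agent.Lib.Helper5.Tw
open scoped commutatorElement

section split

variable {Γ G : Type*} [Group Γ] [Group G] (σ : Γ →* G) (s : G →* Γ)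

/-- for a split central extension the commutator subgroup lies in the image of the section -/
theorem commutator_le_range_of_section (hs : ∀ g, σ (s g) = g)
    (hc : σ.ker ≤ Subgroup.center Γ) : commutator Γ ≤ s.range := by
  have hc' : ∀ z : Γ, σ z = 1 → ∀ e : Γ, z * e = e * z := by
    intro z hz e
    exact (Subgroup.mem_center_iff.1 (hc (MonoidHom.mem_ker.2 hz)) e).symm
  rw [commutator_def, Subgroup.commutator_le]
  intro a _ b _
  have e : ⁅a, b⁆ = ⁅s (σ a), s (σ b)⁆ :=
    comm_congr σ hc' (hs (σ a)).symm (hs (σ b)).symm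
  rw [e, ← map_commutatorElement]
  exact ⟨_, rfl⟩

/-- a split stem extension is trivial -/
theorem ker_eq_bot_of_section (hs : ∀ g, σ (s g) = g)
    (hc : σ.ker ≤ Subgroup.center Γ) (hder : σ.ker ≤ commutator Γ) : σ.ker = ⊥ := by
  rw [eq_bot_iff]
  intro z hz
  obtain ⟨g, rfl⟩ := commutator_le_range_of_section σ s hs hc (hder hz)
  rw [MonoidHom.mem_ker, hs g] at hz
  rw [hz, map_one]
  exact Subgroup.mem_bot.2 rfl

end split

section chev

variable {K : Type*} [Field K] {D : ChevalleyDatum}

/-- for the types with unimodular Cartan matrix, the group presented by (R1), (R2) over a finite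
field is the Chevalley group -/
theorem exists_cover_equiv_group [Finite K] (hD : D ∈ [chevG2, chevF4, chevE8]) :
    Nonempty (D.SteinbergCover K ≃* ↥(D.group K)) := by
  have hD' : D ∈ [chevG2, chevB2, chevD4, chevF4, chevE6, chevE7, chevE8] := by
    simp only [List.mem_cons, List.not_mem_nil, or_false] at hD ⊢
    rcases hD with h | h | h
    · exact Or.inl h
    · exact Or.inr (Or.inr (Or.inr (Or.inl h)))
    · exact Or.inr (Or.inr (Or.inr (Or.inr (Or.inr (Or.inr h)))))
  obtain ⟨e₁, -⟩ := cover_equiv (K := K) hD'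
  have hinj : Function.Injective (steinbergRData (K := K) hD').thetaG := by
    rw [← MonoidHom.ker_eq_bot_iff, (steinbergRData (K := K) hD').thetaG_ker_eq_center]
    exact steinberg_center_eq_bot hD
  exact ⟨e₁.trans (MulEquiv.ofBijective (steinbergRData (K := K) hD').thetaG
    ⟨hinj, (steinbergRData (K := K) hD').thetaG_surjective⟩)⟩

/-- every stem extension of a Chevalley group of type `G₂`, `F₄`, `E₈` over a finite field with
more than four elements is trivial -/
theorem stem_ker_eq_bot [Finite K] (hK5 : ∃ s : Finset K, 4 < s.card)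
    (hD : D ∈ [chevG2, chevF4, chevE8]) {Γ : Type*} [Group Γ] (σ : Γ →* ↥(D.group K))
    (hsurj : Function.Surjective σ) (hc : σ.ker ≤ Subgroup.center Γ)
    (hder : σ.ker ≤ commutator Γ) : σ.ker = ⊥ := by
  have hD' : D ∈ [chevG2, chevB2, chevD4, chevF4, chevE6, chevE7, chevE8] := by
    simp only [List.mem_cons, List.not_mem_nil, or_false] at hD ⊢
    rcases hD with h | h | h
    · exact Or.inl h
    · exact Or.inr (Or.inr (Or.inr (Or.inl h)))
    · exact Or.inr (Or.inr (Or.inr (Or.inr (Or.inr (Or.inr h)))))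
  obtain ⟨e⟩ := exists_cover_equiv_group (K := K) hD
  obtain ⟨τ, hτ, -⟩ := cover_universal hK5 D hD' σ hsurj hc e.toMonoidHom
  apply ker_eq_bot_of_section σ (τ.comp e.symm.toMonoidHom) ?_ hc hder
  intro g
  have := DFunLike.congr_fun hτ (e.symm g)
  simp only [MonoidHom.comp_apply, MulEquiv.coe_toMonoidHom, MulEquiv.apply_symm_apply] at this ⊢
  exact this

end chev

end Cfsg.Agent.Lib.Helper5.UC
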