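import Mathlib

/-!
# Biadditive maps on a field invariant under scalings (helper5)
-/

set_option autoImplicit false

namespace Cfsg.Agent.Lib.Helper5.UC

section

variable {K : Type*} [Field K] {A : Type*} [AddCommGroup A]

theorem biadd_zero_left (φ : K → K → A) (hl : ∀ t t' u, φ (t + t') u = φ t u + φ t' u) (u : K) :
    φ 0 u = 0 := by
  have := hl 0 0 u
  rw [add_zero] at this
  exact left_eq_add.1 this

theorem biadd_neg_left (φ : K → K → A) (hl : ∀ t t' u, φ (t + t') u = φ t u + φ t' u) (t u : K) :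
    φ (-t) u = - φ t u := by
  have := hl t (-t) u
  rw [add_neg_cancel, biadd_zero_left φ hl] at this
  exact (neg_eq_of_add_eq_zero_right this.symm).symm

theorem biadd_zero_right (φ : K → K → A) (hr : ∀ t u u', φ t (u + u') = φ t u + φ t u') (t : K) :
    φ t 0 = 0 := by
  have := hr t 0 0
  rw [add_zero] at this
  exact left_eq_add.1 this

theorem biadd_neg_right (φ : K → K → A) (hr : ∀ t u u', φ t (u + u') = φ t u + φ t u') (t u : K) :
    φ t (-u) = - φ t u := by
  have := hr t u (-u)
  rw [add_neg_cancel, biadd_zero_right φ hr] at this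
  exact (neg_eq_of_add_eq_zero_right this.symm).symm

/-- a map additive in the second variable and invariant under a scaling `v ≠ 1` of the second
variable vanishes -/
theorem biadd_zero_of_scale (φ : K → K → A) (hr : ∀ t u u', φ t (u + u') = φ t u + φ t u')
    (v : K) (hv : v ≠ 1) (hinv : ∀ t u, φ t (v * u) = φ t u) : ∀ t u, φ t u = 0 := by
  intro t u
  have hv' : v - 1 ≠ 0 := sub_ne_zero.2 hv
  have key : ∀ u', φ t ((v - 1) * u') = 0 := by
    intro u'
    have e : (v - 1) * u' = v * u' + -u' := by ring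
    rw [e, hr, hinv, biadd_neg_right φ hr, add_neg_cancel]
  have := key (u / (v - 1))
  rwa [mul_div_cancel₀ _ hv'] at this

/-- a biadditive map invariant under all simultaneous scalings vanishes, if the field has an
element `w ≠ 0, 1` with `w² - w + 1 ≠ 0` -/
theorem biadd_zero_of_inv (φ : K → K → A) (hl : ∀ t t' u, φ (t + t') u = φ t u + φ t' u)
    (hr : ∀ t u u', φ t (u + u') = φ t u + φ t u')
    (hinv : ∀ w : K, w ≠ 0 → ∀ t u, φ (w * t) (w * u) = φ t u)
    (w : K) (hw0 : w ≠ 0) (hw1 : w ≠ 1) (hw : w ^ 2 - w + 1 ≠ 0) : ∀ t u, φ t u = 0 := by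
  have h1w : 1 - w ≠ 0 := sub_ne_zero.2 (Ne.symm hw1)
  -- step 1
  have s1 : ∀ t u, φ t u = φ t (w * u) + φ (w * t) u := by
    intro t u
    have h := hinv (1 - w) h1w t u
    have e1 : (1 - w) * t = t + -(w * t) := by ring
    have e2 : (1 - w) * u = u + -(w * u) := by ring
    rw [e1, e2, hl, hr, hr, biadd_neg_left φ hl, biadd_neg_left φ hl, biadd_neg_right φ hr,
      biadd_neg_right φ hr, hinv w hw0] at h
    have h' : φ t u + -φ t (w * u) + (-φ (w * t) u + - -φ t u) - φ t u = 0 := sub_eq_zero.2 h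
    have : φ t u - (φ t (w * u) + φ (w * t) u) = 0 := by
      rw [← h']
      abel
    exact sub_eq_zero.1 this
  -- step 2
  have s2 : ∀ t u, φ t (w * u) = φ (w⁻¹ * t) u := by
    intro t u
    have := hinv w hw0 (w⁻¹ * t) u
    rw [← mul_assoc, mul_inv_cancel₀ hw0, one_mul] at this
    exact this
  have s3 : ∀ t u, φ ((w + w⁻¹ - 1) * t) u = 0 := by
    intro t u
    have e : (w + w⁻¹ - 1) * t = w⁻¹ * t + w * t + -t := by ring
    rw [e, hl, hl, biadd_neg_left φ hl]
    have := s1 t u
    rw [s2] at this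
    rw [← this]
    abel
  have hc : w + w⁻¹ - 1 ≠ 0 := by
    intro h0
    apply hw
    have : w ^ 2 - w + 1 = w * (w + w⁻¹ - 1) := by
      field_simp
      ring
    rw [this, h0, mul_zero]
  intro t u
  have := s3 (t / (w + w⁻¹ - 1)) u
  rwa [mul_div_cancel₀ _ hc] at this

end

section poly

open Polynomial

variable {K : Type*} [Field K]

/-- a field with more than `n` elements has a non-root of every non-zero polynomial of degree at
most `n` -/
theorem exists_not_root (s : Finset K) (p : K[X]) (hp : p ≠ 0) (hdeg : p.natDegree < s.card) :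
    ∃ w ∈ s, p.eval w ≠ 0 := by
  classical
  by_contra hcon
  simp only [not_exists, not_and, not_not] at hcon
  have hsub : s ⊆ p.roots.toFinset := by
    intro w hw
    rw [Multiset.mem_toFinset, mem_roots hp]
    exact hcon w hw
  have h1 := Finset.card_le_card hsub
  have h2 : p.roots.toFinset.card ≤ p.natDegree :=
    (Multiset.toFinset_card_le _).trans (card_roots' p)
  omega

/-- `w ≠ 0, 1` with `w² - w + 1 ≠ 0` in a field with more than four elements -/
theorem exists_good_w (hK : ∃ s : Finset K, 4 < s.card) :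
    ∃ w : K, w ≠ 0 ∧ w ≠ 1 ∧ w ^ 2 - w + 1 ≠ 0 := by
  obtain ⟨s, hs⟩ := hK
  let p : K[X] := X * (X - 1) * (X ^ 2 - X + 1)
  have hmon : p.Monic := by
    apply Monic.mul (Monic.mul monic_X (monic_X_sub_C 1))
    have : (X ^ 2 - X + 1 : K[X]) = X ^ 2 + (-X + 1) := by ring
    rw [this]
    apply monic_X_pow_add
    rw [show (-X + 1 : K[X]) = -X + C 1 by simp]
    compute_degree!
  have hdeg : p.natDegree ≤ 4 := by
    show (X * (X - 1) * (X ^ 2 - X + 1) : K[X]).natDegree ≤ 4
    compute_degree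
  obtain ⟨w, -, hw⟩ := exists_not_root s p hmon.ne_zero (by omega)
  have e : p.eval w = w * (w - 1) * (w ^ 2 - w + 1) := by
    simp [p]
  rw [e] at hw
  refine ⟨w, ?_, ?_, ?_⟩
  · rintro rfl
    simp at hw
  · rintro rfl
    simp at hw
  · intro h0
    rw [h0, mul_zero] at hw
    exact hw rfl

/-- `v ≠ 0` with `v ^ d ≠ 1` for `1 ≤ d ≤ 3` in a field with more than four elements -/
theorem exists_pow_ne_one (hK : ∃ s : Finset K, 4 < s.card) (d : ℕ) (hd1 : 1 ≤ d) (hd3 : d ≤ 3) :
    ∃ v : K, v ≠ 0 ∧ v ^ d ≠ 1 := by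
  obtain ⟨s, hs⟩ := hK
  let p : K[X] := X * (X ^ d - 1)
  have hmon : p.Monic := Monic.mul monic_X (monic_X_pow_sub_C 1 (by omega))
  have hdeg : p.natDegree ≤ 4 := by
    show (X * (X ^ d - 1) : K[X]).natDegree ≤ 4
    have : (X * (X ^ d - 1) : K[X]).natDegree ≤ 1 + d := by compute_degree
    omega
  obtain ⟨v, -, hv⟩ := exists_not_root s p hmon.ne_zero (by omega)
  have e : p.eval v = v * (v ^ d - 1) := by simp [p]
  rw [e] at hv
  refine ⟨v, ?_, ?_⟩
  · rintro rfl
    simp at hv
  · intro h1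
    rw [h1, sub_self, mul_zero] at hv
    exact hv rfl

end poly

end Cfsg.Agent.Lib.Helper5.UC
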