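import Cfsg.Agent.Lib.Helper5.UC.Basic
import Cfsg.Agent.Lib.Helper5.UC.Biadd
import Mathlib

/-!
# Lifting an additive family of elements through a central extension (helper5)
-/

set_option autoImplicit false

namespace Cfsg.Agent.Lib.Helper5.UC

open scoped commutatorElement IsMulCommutative

section

variable {E M : Type*} [Group E] [Group M] (Ψ : E →* M)
  (hc : ∀ z : E, Ψ z = 1 → ∀ e : E, z * e = e * z)

include hc

theorem comm_central {a b : E} (h : Ψ a * Ψ b = Ψ b * Ψ a) (e : E) : ⁅a, b⁆ * e = e * ⁅a, b⁆ :=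
  hc _ (map_comm_eq_one Ψ h) e

theorem comm_mul_left_of_comm {a b c : E} (h : Ψ b * Ψ c = Ψ c * Ψ b) :
    ⁅a * b, c⁆ = ⁅a, c⁆ * ⁅b, c⁆ :=
  comm_mul_left_of_ker Ψ hc (map_comm_eq_one Ψ h)

theorem comm_mul_right_of_comm {a b c : E} (h : Ψ a * Ψ c = Ψ c * Ψ a) :
    ⁅a, b * c⁆ = ⁅a, b⁆ * ⁅a, c⁆ :=
  comm_mul_right_of_ker Ψ hc (map_comm_eq_one Ψ h)

/-- a central commutator is invariant under conjugation of its entries -/
theorem comm_conj_of_comm {a b : E} (h : Ψ a * Ψ b = Ψ b * Ψ a) (e : E) :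
    ⁅e * a * e⁻¹, e * b * e⁻¹⁆ = ⁅a, b⁆ := by
  rw [← conj_comm]
  have := comm_central Ψ hc h e
  rw [← this]
  group

/-- the commutator of lifts of two commuting elements, as an element of the centre -/
def cz (a b : E) (h : Ψ a * Ψ b = Ψ b * Ψ a) : Subgroup.center E :=
  ⟨⁅a, b⁆, Subgroup.mem_center_iff.2 (fun e => (comm_central Ψ hc h e).symm)⟩

variable {K : Type*} [Field K]

omit hc in
theorem fam_zero (x : K → M) (hx : ∀ t u, x (t + u) = x t * x u) : x 0 = 1 := by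
  have := hx 0 0
  rw [add_zero] at this
  exact left_eq_mul.1 this

omit hc in
theorem fam_neg (x : K → M) (hx : ∀ t u, x (t + u) = x t * x u) (t : K) : x (-t) = (x t)⁻¹ := by
  rw [eq_inv_iff_mul_eq_one, ← hx, neg_add_cancel, fam_zero x hx]

omit hc in
theorem fam_comm (x : K → M) (hx : ∀ t u, x (t + u) = x t * x u) (t u : K) :
    x t * x u = x u * x t := by
  rw [← hx, ← hx, add_comm]

/-- lifts of the elements of an additive family commute with each other, if the family is scaled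
by every non-zero scalar under conjugation -/
theorem same_root_comm (x : K → M) (hx : ∀ t u, x (t + u) = x t * x u)
    (hlift : ∀ t, ∃ e, Ψ e = x t)
    (htor : ∀ w : K, w ≠ 0 → ∃ a : E, ∀ t, Ψ a * x t * (Ψ a)⁻¹ = x (w * t))
    (w : K) (hw0 : w ≠ 0) (hw1 : w ≠ 1) (hw : w ^ 2 - w + 1 ≠ 0) :
    ∀ b b' t u, Ψ b = x t → Ψ b' = x u → b * b' = b' * b := by
  classical
  choose l hl using hlift
  have hcl : ∀ t u, Ψ (l t) * Ψ (l u) = Ψ (l u) * Ψ (l t) := fun t u => by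
    rw [hl, hl]
    exact fam_comm x hx t u
  let φ : K → K → Additive (Subgroup.center E) := fun t u =>
    Additive.ofMul (cz Ψ hc (l t) (l u) (hcl t u))
  have hφ : ∀ t u, φ t u = 0 := by
    apply biadd_zero_of_inv φ _ _ _ w hw0 hw1 hw
    · intro t t' u
      show Additive.ofMul _ = Additive.ofMul (_ * _)
      congr 1
      apply Subtype.ext
      show ⁅l (t + t'), l u⁆ = ⁅l t, l u⁆ * ⁅l t', l u⁆
      rw [comm_congr Ψ hc (a' := l t * l t') (b' := l u) (by rw [map_mul, hl, hl, hl, hx]) rfl]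
      exact comm_mul_left_of_comm Ψ hc (hcl t' u)
    · intro t u u'
      show Additive.ofMul _ = Additive.ofMul (_ * _)
      congr 1
      apply Subtype.ext
      show ⁅l t, l (u + u')⁆ = ⁅l t, l u⁆ * ⁅l t, l u'⁆
      rw [comm_congr Ψ hc (a' := l t) (b' := l u * l u') rfl (by rw [map_mul, hl, hl, hl, hx])]
      exact comm_mul_right_of_comm Ψ hc (hcl t u')
    · intro w' hw' t u
      obtain ⟨a, ha⟩ := htor w' hw'
      show Additive.ofMul _ = Additive.ofMul _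
      congr 1
      apply Subtype.ext
      show ⁅l (w' * t), l (w' * u)⁆ = ⁅l t, l u⁆
      rw [← comm_conj_of_comm Ψ hc (hcl t u) a]
      apply comm_congr Ψ hc
      · rw [map_mul, map_mul, map_inv, hl, hl, ha]
      · rw [map_mul, map_mul, map_inv, hl, hl, ha]
  intro b b' t u hb hb'
  rw [← comm_eq_one_iff', comm_congr Ψ hc (a' := l t) (b' := l u) (by rw [hb, hl]) (by rw [hb', hl])]
  have := hφ t u
  have h1 : cz Ψ hc (l t) (l u) (hcl t u) = 1 := this
  exact congrArg Subtype.val h1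

/-- lifts of the elements of two commuting families commute, if some conjugation fixes the first
family and scales the second one by `v ≠ 1` -/
theorem comm0 (x y : K → M) (hy : ∀ t u, y (t + u) = y t * y u)
    (hxy : ∀ t u, x t * y u = y u * x t) (hly : ∀ u, ∃ e, Ψ e = y u)
    (v : K) (hv : v ≠ 1) (a : E) (hax : ∀ t, Ψ a * x t * (Ψ a)⁻¹ = x t)
    (hay : ∀ u, Ψ a * y u * (Ψ a)⁻¹ = y (v * u)) :
    ∀ b b' t u, Ψ b = x t → Ψ b' = y u → b * b' = b' * b := by
  classical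
  choose l hl using hly
  intro b b' t u hb hb'
  have hcl : ∀ u, Ψ b * Ψ (l u) = Ψ (l u) * Ψ b := fun u => by
    rw [hb, hl]
    exact hxy t u
  let φ : K → K → Additive (Subgroup.center E) := fun _ u =>
    Additive.ofMul (cz Ψ hc b (l u) (hcl u))
  have hφ : ∀ t u, φ t u = 0 := by
    apply biadd_zero_of_scale φ _ v hv
    · intro _ u
      show Additive.ofMul _ = Additive.ofMul _
      congr 1
      apply Subtype.ext
      show ⁅b, l (v * u)⁆ = ⁅b, l u⁆
      rw [← comm_conj_of_comm Ψ hc (hcl u) a]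
      apply comm_congr Ψ hc
      · rw [map_mul, map_mul, map_inv, hb, hax]
      · rw [map_mul, map_mul, map_inv, hl, hl, hay]
    · intro _ u u'
      show Additive.ofMul _ = Additive.ofMul (_ * _)
      congr 1
      apply Subtype.ext
      show ⁅b, l (u + u')⁆ = ⁅b, l u⁆ * ⁅b, l u'⁆
      rw [comm_congr Ψ hc (a' := b) (b' := l u * l u') rfl (by rw [map_mul, hl, hl, hl, hy])]
      exact comm_mul_right_of_comm Ψ hc (hcl u')
  rw [← comm_eq_one_iff', comm_congr Ψ hc (a' := b) (b' := l u) rfl (by rw [hb', hl])]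
  have h1 : cz Ψ hc b (l u) (hcl u) = 1 := hφ 0 u
  exact congrArg Subtype.val h1

end

section torus

variable {E M : Type*} [Group E] [Group M] (Ψ : E →* M)
  (hc : ∀ z : E, Ψ z = 1 → ∀ e : E, z * e = e * z)
  {K : Type*} [Field K] (x : K → M) (hx : ∀ t u, x (t + u) = x t * x u)
  (hSR : ∀ b b' t u, Ψ b = x t → Ψ b' = x u → b * b' = b' * b)

include hx in
/-- the image of the commutator of a lift of a torus element with a lift of `x t` -/
theorem map_comm_tor (a : E) (χ : K) (ha : ∀ t, Ψ a * x t * (Ψ a)⁻¹ = x (χ * t)) (b : E) (t : K)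
    (hb : Ψ b = x t) : Ψ ⁅a, b⁆ = x ((χ - 1) * t) := by
  rw [commutatorElement_def, map_mul, map_mul, map_mul, map_inv, map_inv, hb, ha,
    ← fam_neg x hx, ← hx]
  congr 1
  ring

include hx hSR in
/-- additivity of the commutator with a lift of a torus element -/
theorem comm_tor_add (a : E) (χ : K) (ha : ∀ t, Ψ a * x t * (Ψ a)⁻¹ = x (χ * t)) (b b' : E)
    (t u : K) (hb : Ψ b = x t) (hb' : Ψ b' = x u) : ⁅a, b * b'⁆ = ⁅a, b⁆ * ⁅a, b'⁆ := by
  rw [comm_mul_right']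
  congr 1
  have h1 := map_comm_tor Ψ x hx a χ ha b' u hb'
  have h2 := hSR b ⁅a, b'⁆ t _ hb h1
  rw [h2]
  group

include hc hx hSR in
/-- independence of the torus element -/
theorem comm_tor_indep (hlift : ∀ t, ∃ e, Ψ e = x t) (a a' : E)
    (hcomm : Ψ a * Ψ a' = Ψ a' * Ψ a) (χ χ' : K)
    (ha : ∀ t, Ψ a * x t * (Ψ a)⁻¹ = x (χ * t)) (ha' : ∀ t, Ψ a' * x t * (Ψ a')⁻¹ = x (χ' * t))
    (b b' : E) (u : K) (hb : Ψ b = x ((χ' - 1) * u)) (hb' : Ψ b' = x ((χ - 1) * u)) :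
    ⁅a, b⁆ = ⁅a', b'⁆ := by
  classical
  choose l hl using hlift
  -- the four elements
  have eA := map_comm_tor Ψ x hx a χ ha (l u) u (hl u)
  have eA' := map_comm_tor Ψ x hx a' χ' ha' (l u) u (hl u)
  have eB := map_comm_tor Ψ x hx a χ ha (l ((χ' - 1) * u)) _ (hl _)
  have eB' := map_comm_tor Ψ x hx a' χ' ha' (l ((χ - 1) * u)) _ (hl _)
  -- two expansions
  have k1 : ⁅a * a', l u⁆ = ⁅a', l u⁆ * ⁅a', l ((χ - 1) * u)⁆ * ⁅a, l u⁆ := by
    rw [comm_mul_left', conj_comm]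
    congr 1
    rw [comm_congr Ψ hc (a' := a') (b' := l u * l ((χ - 1) * u))
      (by rw [map_mul, map_mul, map_inv, hcomm, mul_assoc, mul_inv_cancel, mul_one])
      (by rw [map_mul, map_mul, map_mul, map_inv, hl, hl, ha, ← hx]; congr 1; ring)]
    exact comm_tor_add Ψ x hx hSR a' χ' ha' _ _ _ _ (hl _) (hl _)
  have k2 : ⁅a' * a, l u⁆ = ⁅a, l u⁆ * ⁅a, l ((χ' - 1) * u)⁆ * ⁅a', l u⁆ := by
    rw [comm_mul_left', conj_comm]
    congr 1
    rw [comm_congr Ψ hc (a' := a) (b' := l u * l ((χ' - 1) * u))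
      (by rw [map_mul, map_mul, map_inv, ← hcomm, mul_assoc, mul_inv_cancel, mul_one])
      (by rw [map_mul, map_mul, map_mul, map_inv, hl, hl, ha', ← hx]; congr 1; ring)]
    exact comm_tor_add Ψ x hx hSR a χ ha _ _ _ _ (hl _) (hl _)
  have k3 : ⁅a * a', l u⁆ = ⁅a' * a, l u⁆ :=
    comm_congr Ψ hc (by rw [map_mul, map_mul, hcomm]) rfl
  rw [k1, k2] at k3
  -- commutation of the four elements
  have c1 := hSR _ _ _ _ eA eA'
  have c2 := hSR _ _ _ _ eB' eA
  have key : ⁅a', l ((χ - 1) * u)⁆ = ⁅a, l ((χ' - 1) * u)⁆ := by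
    have h1 : ⁅a', l u⁆ * ⁅a', l ((χ - 1) * u)⁆ * ⁅a, l u⁆
        = ⁅a, l u⁆ * ⁅a', l u⁆ * ⁅a', l ((χ - 1) * u)⁆ := by
      rw [mul_assoc, c2, ← mul_assoc, ← c1]
    have h2 : ⁅a, l u⁆ * ⁅a, l ((χ' - 1) * u)⁆ * ⁅a', l u⁆
        = ⁅a, l u⁆ * ⁅a', l u⁆ * ⁅a, l ((χ' - 1) * u)⁆ := by
      have c3 := hSR _ _ _ _ eB eA'
      rw [mul_assoc, c3, ← mul_assoc]
    rw [h1, h2] at k3
    exact mul_left_cancel k3
  rw [comm_congr Ψ hc (a' := a) (b' := l ((χ' - 1) * u)) rfl (by rw [hb, hl]),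
    comm_congr Ψ hc (a := a') (b := b') (a' := a') (b' := l ((χ - 1) * u)) rfl (by rw [hb', hl])]
  exact key.symm

end torus

end Cfsg.Agent.Lib.Helper5.UC
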