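import Cfsg.Agent.Lib.Helper5.UC.Ext
import Mathlib

/-!
# Type B2: lifts of root elements of a long root commute (helper5)
-/

set_option autoImplicit false

namespace Cfsg.Agent.Lib.Helper5.UC

open Cfsg.Lie Cfsg.Agent.Lib.Helper5.Chev Cfsg.Agent.Lib.Helper5.St Cfsg.Agent.Lib.Helper5.Tw
open scoped commutatorElement

namespace Ext

variable {K : Type*} [Field K] {E : Type*} [Group E] (X : Ext K chevB2 E)

theorem b2_comm_of_nil (r s : ℕ) (hr : r < 8) (hs : s < 8) (hrs : s ≠ r) (hneg : s ≠ chevB2.neg r)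
    (hnil : chevB2.commTerms r s = []) (t u : K) : X.x s u * X.x r t = X.x r t * X.x s u := by
  have h := comm_formula (F := K) chevB2 X.hD r s hr hs hrs hneg t u
  unfold ChevalleyDatum.commWord at h
  rw [hnil] at h
  apply Units.ext
  rw [Units.val_mul, Units.val_mul]
  show chevB2.x K s u * chevB2.x K r t = chevB2.x K r t * chevB2.x K s u
  rw [h]
  show _ * (1 : Matrix chevB2.Idx chevB2.Idx K) = _
  rw [Matrix.mul_one]

theorem b2_p47 : pairD chevB2 4 7 = 0 := by decide +kernel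
theorem b2_p44 : pairD chevB2 4 4 = 2 := by decide +kernel
theorem b2_p56 : pairD chevB2 5 6 = 0 := by decide +kernel
theorem b2_p54 : pairD chevB2 5 4 = -2 := by decide +kernel
theorem b2_p52 : pairD chevB2 5 2 = -2 := by decide +kernel
theorem b2_p42 : pairD chevB2 4 2 = 1 := by decide +kernel

/-- lifts of root elements of the long fundamental root commute -/
theorem sr_B2_long : X.SR 4 := by
  obtain ⟨v, hv0, hv⟩ := exists_pow_ne_one X.hK 2 (by norm_num) (by norm_num)
  have h8 : chevB2.nroots = 8 := rfl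
  -- the pair (7, 4)
  have c7 : ∀ (b b' : E) (t u : K), X.Ψ b = X.x 7 t → X.Ψ b' = X.x 4 u → b * b' = b' * b := by
    obtain ⟨a, ha⟩ := X.lift_diag _ (X.hU_mem 4 (by decide) v hv0)
    apply comm0 X.Ψ X.hc (X.x 7) (X.x 4) (X.x_add 4) ?_ (X.lift_x 4) (v ^ 2) hv a
    · intro t
      rw [ha, X.hU_conj 4 7 (by decide) (by decide) v hv0, b2_p47, zpow_zero, one_mul]
    · intro u
      rw [ha, X.hU_conj 4 4 (by decide) (by decide) v hv0, b2_p44, zpow_ofNat]
    · intro t u
      exact (X.b2_comm_of_nil 7 4 (by decide) (by decide) (by decide) (by decide)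
        (by decide +kernel) t u).symm
  -- the pair (6, 4)
  have c6 : ∀ (b b' : E) (t u : K), X.Ψ b = X.x 6 t → X.Ψ b' = X.x 4 u → b * b' = b' * b := by
    obtain ⟨a, ha⟩ := X.lift_diag _ (X.hU_mem 5 (by decide) v hv0)
    have hv' : v ^ (-2 : ℤ) ≠ 1 := by
      intro h1
      apply hv
      have : v ^ (2 : ℤ) = 1 := by
        rw [zpow_neg, inv_eq_one] at h1
        exact h1
      rwa [zpow_ofNat] at this
    apply comm0 X.Ψ X.hc (X.x 6) (X.x 4) (X.x_add 4) ?_ (X.lift_x 4) (v ^ (-2 : ℤ)) hv' a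
    · intro t
      rw [ha, X.hU_conj 5 6 (by decide) (by decide) v hv0, b2_p56, zpow_zero, one_mul]
    · intro u
      rw [ha, X.hU_conj 5 4 (by decide) (by decide) v hv0, b2_p54]
    · intro t u
      exact (X.b2_comm_of_nil 6 4 (by decide) (by decide) (by decide) (by decide)
        (by decide +kernel) t u).symm
  -- the pair (4, 2)
  have c2 : ∀ (b b' : E) (t u : K), X.Ψ b = X.x 4 t → X.Ψ b' = X.x 2 u → b * b' = b' * b := by
    obtain ⟨w, hw0, hw1, -⟩ := exists_good_w X.hK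
    obtain ⟨a, ha⟩ := X.lift_diag _ (Subgroup.mul_mem _ (X.hU_mem 5 (by decide) w hw0)
      (X.hU_mem 4 (by decide) w hw0))
    have hw' : w ^ (-1 : ℤ) ≠ 1 := by
      rw [zpow_neg_one]
      intro h1
      exact hw1 (inv_eq_one.1 h1)
    apply comm0 X.Ψ X.hc (X.x 4) (X.x 2) (X.x_add 2) ?_ (X.lift_x 2) (w ^ (-1 : ℤ)) hw' a
    · intro t
      rw [ha]
      have e : X.hU 5 w * X.hU 4 w * X.x 4 t * (X.hU 5 w * X.hU 4 w)⁻¹
          = X.hU 5 w * (X.hU 4 w * X.x 4 t * (X.hU 4 w)⁻¹) * (X.hU 5 w)⁻¹ := by group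
      rw [e, X.hU_conj 4 4 (by decide) (by decide) w hw0, X.hU_conj 5 4 (by decide) (by decide) w hw0,
        b2_p44, b2_p54, ← mul_assoc, ← zpow_add₀ hw0]
      norm_num
    · intro u
      rw [ha]
      have e : X.hU 5 w * X.hU 4 w * X.x 2 u * (X.hU 5 w * X.hU 4 w)⁻¹
          = X.hU 5 w * (X.hU 4 w * X.x 2 u * (X.hU 4 w)⁻¹) * (X.hU 5 w)⁻¹ := by group
      rw [e, X.hU_conj 4 2 (by decide) (by decide) w hw0, X.hU_conj 5 2 (by decide) (by decide) w hw0,
        b2_p42, b2_p52, ← mul_assoc, ← zpow_add₀ hw0]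
      norm_num
    · intro t u
      exact (X.b2_comm_of_nil 4 2 (by decide) (by decide) (by decide) (by decide)
        (by decide +kernel) t u).symm
  -- the decomposition of `x_4(t)`
  have hdec : ∀ t : K, X.x 4 t = (X.x 6 t)⁻¹ * (X.x 7 t * X.x 2 1)⁻¹ * (X.x 2 1 * X.x 7 t) := by
    intro t
    have h := comm_formula (F := K) chevB2 X.hD 7 2 (by decide) (by decide) (by decide) (by decide)
      t 1
    have hterms : chevB2.commTerms 7 2 = [(6, -1, 1, 1), (4, -1, 1, 2)] := by decide +kernel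
    unfold ChevalleyDatum.commWord at h
    rw [hterms] at h
    have h' : X.x 2 1 * X.x 7 t = X.x 7 t * X.x 2 1 * (X.x 6 t * X.x 4 t) := by
      apply Units.ext
      rw [Units.val_mul, Units.val_mul, Units.val_mul, Units.val_mul]
      rw [show ((X.x 2 1 : GL chevB2.Idx K) : Matrix chevB2.Idx chevB2.Idx K) = chevB2.x K 2 1 from rfl,
        show ((X.x 7 t : GL chevB2.Idx K) : Matrix chevB2.Idx chevB2.Idx K) = chevB2.x K 7 t from rfl,
        show ((X.x 6 t : GL chevB2.Idx K) : Matrix chevB2.Idx chevB2.Idx K) = chevB2.x K 6 t from rfl,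
        show ((X.x 4 t : GL chevB2.Idx K) : Matrix chevB2.Idx chevB2.Idx K) = chevB2.x K 4 t from rfl,
        h]
      congr 1
      unfold ChevalleyDatum.wordMat
      simp only [List.map_cons, List.map_nil, List.prod_cons, List.prod_nil, Matrix.mul_one]
      norm_num
    rw [h']
    group
  intro b b' t u hb hb'
  obtain ⟨l6, h6⟩ := X.lift_x 6 t
  obtain ⟨l7, h7⟩ := X.lift_x 7 t
  obtain ⟨l2, h2⟩ := X.lift_x 2 1
  have he : X.Ψ (l6⁻¹ * (l7 * l2)⁻¹ * (l2 * l7)) = X.Ψ b := by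
    rw [hb, hdec t, map_mul, map_mul, map_inv, map_inv, map_mul, map_mul, h6, h7, h2]
  obtain ⟨z, hz, rfl⟩ := exists_ker_mul X.Ψ he
  have k6 : Commute b' l6 := (c6 l6 b' t u h6 hb').symm
  have k7 : Commute b' l7 := (c7 l7 b' t u h7 hb').symm
  have k2 : Commute b' l2 := c2 b' l2 u 1 hb' h2
  have kz : Commute b' z := (X.hc z hz b').symm
  have key : Commute b' (l6⁻¹ * (l7 * l2)⁻¹ * (l2 * l7) * z) :=
    (((k6.inv_right).mul_right ((k7.mul_right k2).inv_right)).mul_right (k2.mul_right k7)).mul_right kz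
  exact key.symm

end Ext

end Cfsg.Agent.Lib.Helper5.UC
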