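import Mathlib

/-!
# Commutators in central extensions (helper5)
-/

set_option autoImplicit false

namespace Cfsg.Agent.Lib.Helper5.UC

open scoped commutatorElement

section comm

variable {E : Type*} [Group E]

theorem comm_mul_left' (a b c : E) : ⁅a * b, c⁆ = a * ⁅b, c⁆ * a⁻¹ * ⁅a, c⁆ := by
  simp only [commutatorElement_def]
  group

theorem comm_mul_right' (a b c : E) : ⁅a, b * c⁆ = ⁅a, b⁆ * (b * ⁅a, c⁆ * b⁻¹) := by
  simp only [commutatorElement_def]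
  group

theorem conj_comm (e a b : E) : e * ⁅a, b⁆ * e⁻¹ = ⁅e * a * e⁻¹, e * b * e⁻¹⁆ := by
  simp only [commutatorElement_def]
  group

theorem comm_inv_swap (a b : E) : ⁅a, b⁆⁻¹ = ⁅b, a⁆ := by
  simp only [commutatorElement_def]
  group

theorem comm_eq_one_iff' (a b : E) : ⁅a, b⁆ = 1 ↔ a * b = b * a := by
  rw [commutatorElement_def]
  constructor
  · intro h
    have : a * b = (a * b * a⁻¹ * b⁻¹) * (b * a) := by group
    rw [this, h, one_mul]
  · intro h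
    rw [h]
    group

end comm

section central

variable {E M : Type*} [Group E] [Group M] (Ψ : E →* M)
  (hc : ∀ z : E, Ψ z = 1 → ∀ e : E, z * e = e * z)

include hc

/-- the commutator of two elements only depends on their images -/
theorem comm_congr {a a' b b' : E} (ha : Ψ a = Ψ a') (hb : Ψ b = Ψ b') : ⁅a, b⁆ = ⁅a', b'⁆ := by
  have hz : Ψ (a⁻¹ * a') = 1 := by rw [map_mul, map_inv, ha, inv_mul_cancel]
  have hw : Ψ (b⁻¹ * b') = 1 := by rw [map_mul, map_inv, hb, inv_mul_cancel]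
  have ea : a' = a * (a⁻¹ * a') := by group
  have eb : b' = b * (b⁻¹ * b') := by group
  rw [ea, eb, comm_mul_left', comm_mul_right' a b, comm_mul_right' (a⁻¹ * a') b]
  have h1 : ⁅a⁻¹ * a', b⁆ = 1 := (comm_eq_one_iff' _ _).2 (hc _ hz b)
  have h2 : ⁅a⁻¹ * a', b⁻¹ * b'⁆ = 1 := (comm_eq_one_iff' _ _).2 (hc _ hz _)
  have h3 : ⁅a, b⁻¹ * b'⁆ = 1 := (comm_eq_one_iff' _ _).2 (hc _ hw a).symm
  rw [h1, h2, h3]
  group

omit hc in
/-- the commutator of two elements with commuting images is in the kernel -/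
theorem map_comm_eq_one {a b : E} (h : Ψ a * Ψ b = Ψ b * Ψ a) : Ψ ⁅a, b⁆ = 1 := by
  rw [map_commutatorElement]
  exact (comm_eq_one_iff' _ _).2 h

omit hc in
/-- two elements with the same image differ by an element of the kernel -/
theorem exists_ker_mul {a a' : E} (ha : Ψ a = Ψ a') : ∃ z : E, Ψ z = 1 ∧ a' = a * z :=
  ⟨a⁻¹ * a', by rw [map_mul, map_inv, ha, inv_mul_cancel], by group⟩

theorem comm_mul_left_of_ker {a b c : E} (h : Ψ ⁅b, c⁆ = 1) : ⁅a * b, c⁆ = ⁅a, c⁆ * ⁅b, c⁆ := by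
  rw [comm_mul_left']
  have := hc _ h
  calc a * ⁅b, c⁆ * a⁻¹ * ⁅a, c⁆ = ⁅b, c⁆ * a * a⁻¹ * ⁅a, c⁆ := by rw [this a]
    _ = ⁅b, c⁆ * ⁅a, c⁆ := by group
    _ = ⁅a, c⁆ * ⁅b, c⁆ := this _

theorem comm_mul_right_of_ker {a b c : E} (h : Ψ ⁅a, c⁆ = 1) : ⁅a, b * c⁆ = ⁅a, b⁆ * ⁅a, c⁆ := by
  rw [comm_mul_right']
  have := hc _ h
  congr 1
  calc b * ⁅a, c⁆ * b⁻¹ = ⁅a, c⁆ * b * b⁻¹ := by rw [this b]
    _ = ⁅a, c⁆ := by group

end central

end Cfsg.Agent.Lib.Helper5.UC
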