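import Cfsg.Agent.Lib.Helper5.UC.Tables
import Cfsg.Agent.Lib.Helper5.Chev.CmB2
import Cfsg.Agent.Lib.Helper5.St.CkB2
import Mathlib

/-!
# The data for the universality of Steinberg's cover: type B2 (helper5)
-/

set_option autoImplicit false
set_option maxRecDepth 100000

namespace Cfsg.Agent.Lib.Helper5.UC.DtB2

open Cfsg.Lie Cfsg.Agent.Lib.Helper5.Chev Cfsg.Agent.Lib.Helper5.St Cfsg.Agent.Lib.Helper5.Tw

theorem tgt : tgtb DataB2.fd = true := by decide +kernel

theorem pf : pfb chevB2 = true := by decide +kernel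

theorem cw : CommW DataB2.fd chevB2 BsB2.Bs :=
  commW_of_noThree DataB2.agrees HsB2.reflBs' (noThree_of_check DataB2.agrees CmB2.noThree)

theorem sr : ∀ j < chevB2.rank, srb chevB2 j = true ∨ (chevB2 = chevB2 ∧ j = 1) := by
  intro j hj
  have hj' : j < 2 := hj
  interval_cases j
  · exact Or.inl (by decide +kernel)
  · exact Or.inr ⟨rfl, rfl⟩

theorem rows : ∀ r0 ∈ CmB2.base1, r0 < chevB2.nroots ∧ ∃ (g2 : ℕ) (base2 : List ℕ) (fuel2 : ℕ),
    reachFb DataB2.fd BsB2.Bs g2 base2 r0 fuel2 = true ∧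
    ∀ s ∈ base2, s < chevB2.nroots ∧ (s = r0 ∨ s = chevB2.neg r0 ∨ ∃ L : List ℕ,
      (∀ i ∈ L, i < chevB2.rank) ∧ chevB2.nroots / 2 ≤ wW' BsB2.Bs L r0 ∧
        chevB2.nroots / 2 ≤ wW' BsB2.Bs L s) := by
  intro r0 hr0
  simp only [CmB2.base1, List.mem_cons, List.not_mem_nil, or_false] at hr0
  rcases hr0 with rfl | rfl
  · refine ⟨by decide, CmB2.g2_6, CmB2.base2_6, 1, CmB2.rb2_6, ?_⟩
    intro s hs
    simp only [CmB2.base2_6, List.mem_cons, List.not_mem_nil, or_false] at hs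
    rcases hs with rfl | rfl | rfl | rfl | rfl
    · exact ⟨by decide, Or.inl rfl⟩
    · exact ⟨by decide, Or.inr (Or.inl (by decide +kernel))⟩
    · exact ⟨by decide, Or.inr (Or.inr ⟨[0, 1], by decide, by decide +kernel, by decide +kernel⟩)⟩
    · exact ⟨by decide, Or.inr (Or.inr ⟨[0], by decide, by decide +kernel, by decide +kernel⟩)⟩
    · exact ⟨by decide, Or.inr (Or.inr ⟨[], by decide, by decide +kernel, by decide +kernel⟩)⟩
  · refine ⟨by decide, CmB2.g2_7, CmB2.base2_7, 1, CmB2.rb2_7, ?_⟩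
    intro s hs
    simp only [CmB2.base2_7, List.mem_cons, List.not_mem_nil, or_false] at hs
    rcases hs with rfl | rfl | rfl | rfl | rfl
    · exact ⟨by decide, Or.inl rfl⟩
    · exact ⟨by decide, Or.inr (Or.inl (by decide +kernel))⟩
    · exact ⟨by decide, Or.inr (Or.inr ⟨[1, 0], by decide, by decide +kernel, by decide +kernel⟩)⟩
    · exact ⟨by decide, Or.inr (Or.inr ⟨[1], by decide, by decide +kernel, by decide +kernel⟩)⟩
    · exact ⟨by decide, Or.inr (Or.inr ⟨[], by decide, by decide +kernel, by decide +kernel⟩)⟩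

/-- all the data -/
theorem uctx (K : Type*) [Field K] :
    UCtx K chevB2 DataB2.fd BsB2.Bs HsB2.gH HsB2.baseH 2 where
  C := ⟨by simp, DataB2.agrees, HsB2.reflBs', HsB2.rbH, HsB2.base_simple,
    goodL_of_check DataB2.agrees _ CkB2.good, fun hadd i hi => CkB2.facts hadd i hi⟩
  pf := pf
  cw := cw
  gt := tgt
  rows := ⟨CmB2.g1, CmB2.base1, 3, CmB2.rb1, rows⟩
  sr := sr

end Cfsg.Agent.Lib.Helper5.UC.DtB2
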