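import Cfsg.Agent.Lib.Helper5.UC.Tables
import Cfsg.Agent.Lib.Helper5.Chev.CmD4
import Cfsg.Agent.Lib.Helper5.St.CkD4
import Mathlib

/-!
# The data for the universality of Steinberg's cover: type D4 (helper5)
-/

set_option autoImplicit false
set_option maxRecDepth 100000

namespace Cfsg.Agent.Lib.Helper5.UC.DtD4

open Cfsg.Lie Cfsg.Agent.Lib.Helper5.Chev Cfsg.Agent.Lib.Helper5.St Cfsg.Agent.Lib.Helper5.Tw

theorem tgt : tgtb DataD4.fd = true := by decide +kernel

theorem pf : pfb chevD4 = true := by decide +kernel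

theorem cw : CommW DataD4.fd chevD4 BsD4.Bs :=
  commW_of_noThree DataD4.agrees HsD4.reflBs' (noThree_of_check DataD4.agrees CmD4.noThree)

theorem sr : ∀ j < chevD4.rank, srb chevD4 j = true ∨ (chevD4 = chevB2 ∧ j = 1) := by
  intro j hj
  have hj' : j < 4 := hj
  interval_cases j
  · exact Or.inl (by decide +kernel)
  · exact Or.inl (by decide +kernel)
  · exact Or.inl (by decide +kernel)
  · exact Or.inl (by decide +kernel)

theorem rows : ∀ r0 ∈ CmD4.base1, r0 < chevD4.nroots ∧ ∃ (g2 : ℕ) (base2 : List ℕ) (fuel2 : ℕ),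
    reachFb DataD4.fd BsD4.Bs g2 base2 r0 fuel2 = true ∧
    ∀ s ∈ base2, s < chevD4.nroots ∧ (s = r0 ∨ s = chevD4.neg r0 ∨ ∃ L : List ℕ,
      (∀ i ∈ L, i < chevD4.rank) ∧ chevD4.nroots / 2 ≤ wW' BsD4.Bs L r0 ∧
        chevD4.nroots / 2 ≤ wW' BsD4.Bs L s) := by
  intro r0 hr0
  simp only [CmD4.base1, List.mem_cons, List.not_mem_nil, or_false] at hr0
  rcases hr0 with rfl
  · refine ⟨by decide, CmD4.g2_23, CmD4.base2_23, 3, CmD4.rb2_23, ?_⟩
    intro s hs
    simp only [CmD4.base2_23, List.mem_cons, List.not_mem_nil, or_false] at hs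
    rcases hs with rfl | rfl | rfl | rfl | rfl | rfl | rfl
    · exact ⟨by decide, Or.inl rfl⟩
    · exact ⟨by decide, Or.inr (Or.inl (by decide +kernel))⟩
    · exact ⟨by decide, Or.inr (Or.inr ⟨[0, 2, 1, 3], by decide, by decide +kernel, by decide +kernel⟩)⟩
    · exact ⟨by decide, Or.inr (Or.inr ⟨[0], by decide, by decide +kernel, by decide +kernel⟩)⟩
    · exact ⟨by decide, Or.inr (Or.inr ⟨[2], by decide, by decide +kernel, by decide +kernel⟩)⟩
    · exact ⟨by decide, Or.inr (Or.inr ⟨[3], by decide, by decide +kernel, by decide +kernel⟩)⟩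
    · exact ⟨by decide, Or.inr (Or.inr ⟨[], by decide, by decide +kernel, by decide +kernel⟩)⟩

/-- all the data -/
theorem uctx (K : Type*) [Field K] :
    UCtx K chevD4 DataD4.fd BsD4.Bs HsD4.gH HsD4.baseH 5 where
  C := ⟨by simp, DataD4.agrees, HsD4.reflBs', HsD4.rbH, HsD4.base_simple,
    goodL_of_check DataD4.agrees _ CkD4.good, fun hadd i hi => CkD4.facts hadd i hi⟩
  pf := pf
  cw := cw
  gt := tgt
  rows := ⟨CmD4.g1, CmD4.base1, 9, CmD4.rb1, rows⟩
  sr := sr

end Cfsg.Agent.Lib.Helper5.UC.DtD4
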