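import Cfsg.Agent.Lib.Helper5.UC.Tables
import Cfsg.Agent.Lib.Helper5.Chev.CmE6
import Cfsg.Agent.Lib.Helper5.St.CkE6
import Mathlib

/-!
# The data for the universality of Steinberg's cover: type E6 (helper5)
-/

set_option autoImplicit false
set_option maxRecDepth 100000

namespace Cfsg.Agent.Lib.Helper5.UC.DtE6

open Cfsg.Lie Cfsg.Agent.Lib.Helper5.Chev Cfsg.Agent.Lib.Helper5.St Cfsg.Agent.Lib.Helper5.Tw

theorem tgt : tgtb DataE6.fd = true := by decide +kernel

theorem pf : pfb chevE6 = true := by decide +kernel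

theorem cw : CommW DataE6.fd chevE6 BsE6.Bs :=
  commW_of_noThree DataE6.agrees HsE6.reflBs' (noThree_of_check DataE6.agrees CmE6.noThree)

theorem sr : ∀ j < chevE6.rank, srb chevE6 j = true ∨ (chevE6 = chevB2 ∧ j = 1) := by
  intro j hj
  have hj' : j < 6 := hj
  interval_cases j
  · exact Or.inl (by decide +kernel)
  · exact Or.inl (by decide +kernel)
  · exact Or.inl (by decide +kernel)
  · exact Or.inl (by decide +kernel)
  · exact Or.inl (by decide +kernel)
  · exact Or.inl (by decide +kernel)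

theorem rows : ∀ r0 ∈ CmE6.base1, r0 < chevE6.nroots ∧ ∃ (g2 : ℕ) (base2 : List ℕ) (fuel2 : ℕ),
    reachFb DataE6.fd BsE6.Bs g2 base2 r0 fuel2 = true ∧
    ∀ s ∈ base2, s < chevE6.nroots ∧ (s = r0 ∨ s = chevE6.neg r0 ∨ ∃ L : List ℕ,
      (∀ i ∈ L, i < chevE6.rank) ∧ chevE6.nroots / 2 ≤ wW' BsE6.Bs L r0 ∧
        chevE6.nroots / 2 ≤ wW' BsE6.Bs L s) := by
  intro r0 hr0
  simp only [CmE6.base1, List.mem_cons, List.not_mem_nil, or_false] at hr0
  rcases hr0 with rfl
  · refine ⟨by decide, CmE6.g2_71, CmE6.base2_71, 9, CmE6.rb2_71, ?_⟩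
    intro s hs
    simp only [CmE6.base2_71, List.mem_cons, List.not_mem_nil, or_false] at hs
    rcases hs with rfl | rfl | rfl | rfl | rfl
    · exact ⟨by decide, Or.inl rfl⟩
    · exact ⟨by decide, Or.inr (Or.inl (by decide +kernel))⟩
    · exact ⟨by decide, Or.inr (Or.inr ⟨[3, 2, 0, 4, 3, 1, 2, 3, 4, 5], by decide, by decide +kernel, by decide +kernel⟩)⟩
    · exact ⟨by decide, Or.inr (Or.inr ⟨[0, 2, 3, 4, 5], by decide, by decide +kernel, by decide +kernel⟩)⟩
    · exact ⟨by decide, Or.inr (Or.inr ⟨[], by decide, by decide +kernel, by decide +kernel⟩)⟩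

/-- all the data -/
theorem uctx (K : Type*) [Field K] :
    UCtx K chevE6 DataE6.fd BsE6.Bs HsE6.gH HsE6.baseH 11 where
  C := ⟨by simp, DataE6.agrees, HsE6.reflBs', HsE6.rbH, HsE6.base_simple,
    goodL_of_check DataE6.agrees _ CkE6.good, fun hadd i hi => CkE6.facts hadd i hi⟩
  pf := pf
  cw := cw
  gt := tgt
  rows := ⟨CmE6.g1, CmE6.base1, 21, CmE6.rb1, rows⟩
  sr := sr

end Cfsg.Agent.Lib.Helper5.UC.DtE6
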