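import Cfsg.Agent.Lib.Helper5.UC.Tables
import Cfsg.Agent.Lib.Helper5.Chev.CmE7
import Cfsg.Agent.Lib.Helper5.St.CkE7
import Mathlib

/-!
# The data for the universality of Steinberg's cover: type E7 (helper5)
-/

set_option autoImplicit false
set_option maxRecDepth 100000

namespace Cfsg.Agent.Lib.Helper5.UC.DtE7

open Cfsg.Lie Cfsg.Agent.Lib.Helper5.Chev Cfsg.Agent.Lib.Helper5.St Cfsg.Agent.Lib.Helper5.Tw

theorem tgt : tgtb DataE7.fd = true := by decide +kernel

theorem pf : pfb chevE7 = true := by decide +kernel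

theorem cw : CommW DataE7.fd chevE7 BsE7.Bs :=
  commW_of_noThree DataE7.agrees HsE7.reflBs' (noThree_of_check DataE7.agrees CmE7.noThree)

theorem sr : ∀ j < chevE7.rank, srb chevE7 j = true ∨ (chevE7 = chevB2 ∧ j = 1) := by
  intro j hj
  have hj' : j < 7 := hj
  interval_cases j
  · exact Or.inl (by decide +kernel)
  · exact Or.inl (by decide +kernel)
  · exact Or.inl (by decide +kernel)
  · exact Or.inl (by decide +kernel)
  · exact Or.inl (by decide +kernel)
  · exact Or.inl (by decide +kernel)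
  · exact Or.inl (by decide +kernel)

theorem rows : ∀ r0 ∈ CmE7.base1, r0 < chevE7.nroots ∧ ∃ (g2 : ℕ) (base2 : List ℕ) (fuel2 : ℕ),
    reachFb DataE7.fd BsE7.Bs g2 base2 r0 fuel2 = true ∧
    ∀ s ∈ base2, s < chevE7.nroots ∧ (s = r0 ∨ s = chevE7.neg r0 ∨ ∃ L : List ℕ,
      (∀ i ∈ L, i < chevE7.rank) ∧ chevE7.nroots / 2 ≤ wW' BsE7.Bs L r0 ∧
        chevE7.nroots / 2 ≤ wW' BsE7.Bs L s) := by
  intro r0 hr0
  simp only [CmE7.base1, List.mem_cons, List.not_mem_nil, or_false] at hr0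
  rcases hr0 with rfl
  · refine ⟨by decide, CmE7.g2_125, CmE7.base2_125, 17, CmE7.rb2_125, ?_⟩
    intro s hs
    simp only [CmE7.base2_125, List.mem_cons, List.not_mem_nil, or_false] at hs
    rcases hs with rfl | rfl | rfl | rfl | rfl
    · exact ⟨by decide, Or.inl rfl⟩
    · exact ⟨by decide, Or.inr (Or.inl (by decide +kernel))⟩
    · exact ⟨by decide, Or.inr (Or.inr ⟨[2, 3, 1, 4, 3, 2, 0, 5, 4, 3, 1, 2, 3, 4, 5, 6], by decide, by decide +kernel, by decide +kernel⟩)⟩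
    · exact ⟨by decide, Or.inr (Or.inr ⟨[5, 4, 3, 1, 2, 3, 4, 5, 6], by decide, by decide +kernel, by decide +kernel⟩)⟩
    · exact ⟨by decide, Or.inr (Or.inr ⟨[], by decide, by decide +kernel, by decide +kernel⟩)⟩

/-- all the data -/
theorem uctx (K : Type*) [Field K] :
    UCtx K chevE7 DataE7.fd BsE7.Bs HsE7.gH HsE7.baseH 17 where
  C := ⟨by simp, DataE7.agrees, HsE7.reflBs', HsE7.rbH, HsE7.base_simple,
    goodL_of_check DataE7.agrees _ CkE7.good, fun hadd i hi => CkE7.facts hadd i hi⟩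
  pf := pf
  cw := cw
  gt := tgt
  rows := ⟨CmE7.g1, CmE7.base1, 33, CmE7.rb1, rows⟩
  sr := sr

end Cfsg.Agent.Lib.Helper5.UC.DtE7
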