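import Cfsg.Agent.Lib.Helper5.UC.Tables
import Cfsg.Agent.Lib.Helper5.Chev.CmF4
import Cfsg.Agent.Lib.Helper5.St.CkF4
import Mathlib

/-!
# The data for the universality of Steinberg's cover: type F4 (helper5)
-/

set_option autoImplicit false
set_option maxRecDepth 100000

namespace Cfsg.Agent.Lib.Helper5.UC.DtF4

open Cfsg.Lie Cfsg.Agent.Lib.Helper5.Chev Cfsg.Agent.Lib.Helper5.St Cfsg.Agent.Lib.Helper5.Tw

theorem tgt : tgtb DataF4.fd = true := by decide +kernel

theorem pf : pfb chevF4 = true := by decide +kernel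

theorem cw : CommW DataF4.fd chevF4 BsF4.Bs :=
  commW_of_noThree DataF4.agrees HsF4.reflBs' (noThree_of_check DataF4.agrees CmF4.noThree)

theorem sr : ∀ j < chevF4.rank, srb chevF4 j = true ∨ (chevF4 = chevB2 ∧ j = 1) := by
  intro j hj
  have hj' : j < 4 := hj
  interval_cases j
  · exact Or.inl (by decide +kernel)
  · exact Or.inl (by decide +kernel)
  · exact Or.inl (by decide +kernel)
  · exact Or.inl (by decide +kernel)

theorem rows : ∀ r0 ∈ CmF4.base1, r0 < chevF4.nroots ∧ ∃ (g2 : ℕ) (base2 : List ℕ) (fuel2 : ℕ),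
    reachFb DataF4.fd BsF4.Bs g2 base2 r0 fuel2 = true ∧
    ∀ s ∈ base2, s < chevF4.nroots ∧ (s = r0 ∨ s = chevF4.neg r0 ∨ ∃ L : List ℕ,
      (∀ i ∈ L, i < chevF4.rank) ∧ chevF4.nroots / 2 ≤ wW' BsF4.Bs L r0 ∧
        chevF4.nroots / 2 ≤ wW' BsF4.Bs L s) := by
  intro r0 hr0
  simp only [CmF4.base1, List.mem_cons, List.not_mem_nil, or_false] at hr0
  rcases hr0 with rfl | rfl
  · refine ⟨by decide, CmF4.g2_44, CmF4.base2_44, 7, CmF4.rb2_44, ?_⟩
    intro s hs
    simp only [CmF4.base2_44, List.mem_cons, List.not_mem_nil, or_false] at hs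
    rcases hs with rfl | rfl | rfl | rfl | rfl | rfl | rfl | rfl
    · exact ⟨by decide, Or.inl rfl⟩
    · exact ⟨by decide, Or.inr (Or.inl (by decide +kernel))⟩
    · exact ⟨by decide, Or.inr (Or.inr ⟨[3, 2, 1, 0, 2, 1, 2, 3], by decide, by decide +kernel, by decide +kernel⟩)⟩
    · exact ⟨by decide, Or.inr (Or.inr ⟨[1, 2, 1, 0, 3, 2, 1], by decide, by decide +kernel, by decide +kernel⟩)⟩
    · exact ⟨by decide, Or.inr (Or.inr ⟨[2, 1, 2, 3], by decide, by decide +kernel, by decide +kernel⟩)⟩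
    · exact ⟨by decide, Or.inr (Or.inr ⟨[3, 2, 1], by decide, by decide +kernel, by decide +kernel⟩)⟩
    · exact ⟨by decide, Or.inr (Or.inr ⟨[], by decide, by decide +kernel, by decide +kernel⟩)⟩
    · exact ⟨by decide, Or.inr (Or.inr ⟨[], by decide, by decide +kernel, by decide +kernel⟩)⟩
  · refine ⟨by decide, CmF4.g2_47, CmF4.base2_47, 7, CmF4.rb2_47, ?_⟩
    intro s hs
    simp only [CmF4.base2_47, List.mem_cons, List.not_mem_nil, or_false] at hs
    rcases hs with rfl | rfl | rfl | rfl | rfl | rfl | rfl | rfl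
    · exact ⟨by decide, Or.inl rfl⟩
    · exact ⟨by decide, Or.inr (Or.inl (by decide +kernel))⟩
    · exact ⟨by decide, Or.inr (Or.inr ⟨[2, 1, 0, 2, 1, 2, 3], by decide, by decide +kernel, by decide +kernel⟩)⟩
    · exact ⟨by decide, Or.inr (Or.inr ⟨[0, 1, 2, 1, 0, 3, 2, 1], by decide, by decide +kernel, by decide +kernel⟩)⟩
    · exact ⟨by decide, Or.inr (Or.inr ⟨[0, 1, 2], by decide, by decide +kernel, by decide +kernel⟩)⟩
    · exact ⟨by decide, Or.inr (Or.inr ⟨[1, 0, 2, 1], by decide, by decide +kernel, by decide +kernel⟩)⟩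
    · exact ⟨by decide, Or.inr (Or.inr ⟨[], by decide, by decide +kernel, by decide +kernel⟩)⟩
    · exact ⟨by decide, Or.inr (Or.inr ⟨[], by decide, by decide +kernel, by decide +kernel⟩)⟩

/-- all the data -/
theorem uctx (K : Type*) [Field K] :
    UCtx K chevF4 DataF4.fd BsF4.Bs HsF4.gH HsF4.baseH 8 where
  C := ⟨by simp, DataF4.agrees, HsF4.reflBs', HsF4.rbH, HsF4.base_simple,
    goodL_of_check DataF4.agrees _ CkF4.good, fun hadd i hi => CkF4.facts hadd i hi⟩
  pf := pf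
  cw := cw
  gt := tgt
  rows := ⟨CmF4.g1, CmF4.base1, 15, CmF4.rb1, rows⟩
  sr := sr

end Cfsg.Agent.Lib.Helper5.UC.DtF4
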