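import Cfsg.Agent.Lib.Helper5.UC.DtG2
import Cfsg.Agent.Lib.Helper5.UC.DtB2
import Cfsg.Agent.Lib.Helper5.UC.DtD4
import Cfsg.Agent.Lib.Helper5.UC.DtF4
import Cfsg.Agent.Lib.Helper5.UC.DtE6
import Cfsg.Agent.Lib.Helper5.UC.DtE7
import Cfsg.Agent.Lib.Helper5.UC.DtE8
import Mathlib

/-!
# The data for the universality of Steinberg's cover: all types (helper5)
-/

set_option autoImplicit false

namespace Cfsg.Agent.Lib.Helper5.UC

open Cfsg.Lie Cfsg.Agent.Lib.Helper5.Chev Cfsg.Agent.Lib.Helper5.St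

theorem uCtx_known (K : Type*) [Field K] (D : ChevalleyDatum)
    (hD : D ∈ [chevG2, chevB2, chevD4, chevF4, chevE6, chevE7, chevE8]) :
    ∃ (T : FD) (Bs : List ℕ) (gH : ℕ) (baseH : List ℕ) (fuel : ℕ),
      UCtx K D T Bs gH baseH fuel := by
  simp only [List.mem_cons, List.not_mem_nil, or_false] at hD
  rcases hD with rfl | rfl | rfl | rfl | rfl | rfl | rfl
  · exact ⟨_, _, _, _, _, DtG2.uctx K⟩
  · exact ⟨_, _, _, _, _, DtB2.uctx K⟩
  · exact ⟨_, _, _, _, _, DtD4.uctx K⟩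
  · exact ⟨_, _, _, _, _, DtF4.uctx K⟩
  · exact ⟨_, _, _, _, _, DtE6.uctx K⟩
  · exact ⟨_, _, _, _, _, DtE7.uctx K⟩
  · exact ⟨_, _, _, _, _, DtE8.uctx K⟩

end Cfsg.Agent.Lib.Helper5.UC
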