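import Cfsg.Agent.Lib.Helper5.UC.Tables
import Cfsg.Agent.Lib.Helper5.St.CkG2
import Mathlib

/-!
# The data for the universality of Steinberg's cover: type G2 (helper5)
-/

set_option autoImplicit false
set_option maxRecDepth 100000

namespace Cfsg.Agent.Lib.Helper5.UC.DtG2

open Cfsg.Lie Cfsg.Agent.Lib.Helper5.Chev Cfsg.Agent.Lib.Helper5.St Cfsg.Agent.Lib.Helper5.Tw

theorem tgt : tgtb DataG2.fd = true := by decide +kernel

theorem pf : pfb chevG2 = true := by decide +kernel

theorem cwb : commWb DataG2.fd BsG2.Bs = true := by decide +kernel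

theorem cw : CommW DataG2.fd chevG2 BsG2.Bs := commW_of_check DataG2.agrees cwb

theorem sr : ∀ j < chevG2.rank, srb chevG2 j = true ∨ (chevG2 = chevB2 ∧ j = 1) := by
  intro j hj
  have hj' : j < 2 := hj
  interval_cases j
  · exact Or.inl (by decide +kernel)
  · exact Or.inl (by decide +kernel)

/-- the dominant roots -/
def base1 : List ℕ := [9, 11]
/-- the packed generators towards the dominant roots -/
def g1 : ℕ := 0x10010101001

theorem rb1 : reachb DataG2.fd BsG2.Bs g1 base1 5 = true := by decide +kernel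

/-- orbit representatives for the stabiliser of the root 9 -/
def base2_9 : List ℕ := [9, 2, 0, 3, 5, 7, 10]
/-- the packed generators towards the representatives -/
def g2_9 : ℕ := 0x100101010010

theorem rb2_9 : reachFb DataG2.fd BsG2.Bs g2_9 base2_9 9 1 = true := by decide +kernel

/-- orbit representatives for the stabiliser of the root 11 -/
def base2_11 : List ℕ := [11, 0, 1, 2, 4, 6, 8]
/-- the packed generators towards the representatives -/
def g2_11 : ℕ := 0x0

theorem rb2_11 : reachFb DataG2.fd BsG2.Bs g2_11 base2_11 11 1 = true := by decide +kernel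

theorem rows : ∀ r0 ∈ base1, r0 < chevG2.nroots ∧ ∃ (g2 : ℕ) (base2 : List ℕ) (fuel2 : ℕ),
    reachFb DataG2.fd BsG2.Bs g2 base2 r0 fuel2 = true ∧
    ∀ s ∈ base2, s < chevG2.nroots ∧ (s = r0 ∨ s = chevG2.neg r0 ∨ ∃ L : List ℕ,
      (∀ i ∈ L, i < chevG2.rank) ∧ chevG2.nroots / 2 ≤ wW' BsG2.Bs L r0 ∧
        chevG2.nroots / 2 ≤ wW' BsG2.Bs L s) := by
  intro r0 hr0
  simp only [base1, List.mem_cons, List.not_mem_nil, or_false] at hr0
  rcases hr0 with rfl | rfl
  · refine ⟨by decide, g2_9, base2_9, 1, rb2_9, ?_⟩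
    intro s hs
    simp only [base2_9, List.mem_cons, List.not_mem_nil, or_false] at hs
    rcases hs with rfl | rfl | rfl | rfl | rfl | rfl | rfl
    · exact ⟨by decide, Or.inl rfl⟩
    · exact ⟨by decide, Or.inr (Or.inl (by decide +kernel))⟩
    · exact ⟨by decide, Or.inr (Or.inr ⟨[1, 0, 1], by decide, by decide +kernel, by decide +kernel⟩)⟩
    · exact ⟨by decide, Or.inr (Or.inr ⟨[1, 0], by decide, by decide +kernel, by decide +kernel⟩)⟩
    · exact ⟨by decide, Or.inr (Or.inr ⟨[1], by decide, by decide +kernel, by decide +kernel⟩)⟩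
    · exact ⟨by decide, Or.inr (Or.inr ⟨[], by decide, by decide +kernel, by decide +kernel⟩)⟩
    · exact ⟨by decide, Or.inr (Or.inr ⟨[], by decide, by decide +kernel, by decide +kernel⟩)⟩
  · refine ⟨by decide, g2_11, base2_11, 1, rb2_11, ?_⟩
    intro s hs
    simp only [base2_11, List.mem_cons, List.not_mem_nil, or_false] at hs
    rcases hs with rfl | rfl | rfl | rfl | rfl | rfl | rfl
    · exact ⟨by decide, Or.inl rfl⟩
    · exact ⟨by decide, Or.inr (Or.inl (by decide +kernel))⟩
    · exact ⟨by decide, Or.inr (Or.inr ⟨[0, 1], by decide, by decide +kernel, by decide +kernel⟩)⟩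
    · exact ⟨by decide, Or.inr (Or.inr ⟨[0, 1, 0], by decide, by decide +kernel, by decide +kernel⟩)⟩
    · exact ⟨by decide, Or.inr (Or.inr ⟨[0], by decide, by decide +kernel, by decide +kernel⟩)⟩
    · exact ⟨by decide, Or.inr (Or.inr ⟨[], by decide, by decide +kernel, by decide +kernel⟩)⟩
    · exact ⟨by decide, Or.inr (Or.inr ⟨[], by decide, by decide +kernel, by decide +kernel⟩)⟩

/-- all the data -/
theorem uctx (K : Type*) [Field K] :
    UCtx K chevG2 DataG2.fd BsG2.Bs HsG2.gH HsG2.baseH 3 where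
  C := ⟨by simp, DataG2.agrees, HsG2.reflBs', HsG2.rbH, HsG2.base_simple,
    goodL_of_check DataG2.agrees _ CkG2.good, fun hadd i hi => CkG2.facts hadd i hi⟩
  pf := pf
  cw := cw
  gt := tgt
  rows := ⟨g1, base1, 5, rb1, rows⟩
  sr := sr

end Cfsg.Agent.Lib.Helper5.UC.DtG2
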