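import Cfsg.Agent.Lib.Helper5.UC.Abstract
import Cfsg.Agent.Lib.Helper5.St.Main
import Cfsg.Agent.Lib.Helper5.Frob.Norm
import Mathlib

/-!
# Central extensions of a Chevalley group: lifts of root elements of one root commute (helper5)
-/

set_option autoImplicit false

namespace Cfsg.Agent.Lib.Helper5.UC

open Cfsg.Lie Cfsg.Agent.Lib.Helper5.Chev Cfsg.Agent.Lib.Helper5.St Cfsg.Agent.Lib.Helper5.Tw
open scoped commutatorElement

/-- a homomorphism onto (at least) the Chevalley group with central kernel, over a field with more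
than four elements -/
structure Ext (K : Type*) [Field K] (D : ChevalleyDatum) (E : Type*) [Group E] where
  hD : D ∈ [chevG2, chevB2, chevD4, chevF4, chevE6, chevE7, chevE8]
  Ψ : E →* GL D.Idx K
  hsurj : ∀ g ∈ D.group K, ∃ e, Ψ e = g
  hc : ∀ z : E, Ψ z = 1 → ∀ e : E, z * e = e * z
  hK : ∃ s : Finset K, 4 < s.card

namespace Ext

variable {K : Type*} [Field K] {D : ChevalleyDatum} {E : Type*} [Group E] (X : Ext K D E)

include X in
theorem hadd : AllAdd K D := allAdd_all D X.hD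

/-- the root elements -/
def x (r : ℕ) (t : K) : GL D.Idx K := X.hadd.xU r t

theorem x_add (r : ℕ) (t u : K) : X.x r (t + u) = X.x r t * X.x r u := by
  apply Units.ext
  rw [Units.val_mul]
  exact (X.hadd.x_add r t u).symm

theorem x_zero' (r : ℕ) : X.x r 0 = 1 := fam_zero (X.x r) (X.x_add r)

theorem x_neg (r : ℕ) (t : K) : X.x r (-t) = (X.x r t)⁻¹ := fam_neg (X.x r) (X.x_add r) t

theorem lift_x (r : ℕ) (t : K) : ∃ e, X.Ψ e = X.x r t := X.hsurj _ (X.hadd.xU_mem_group r t)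

theorem lift_diag (h : GL D.Idx K) (hh : h ∈ D.diagonalSubgroup K) : ∃ e, X.Ψ e = h :=
  X.hsurj _ (X.hadd.diagonal_le hh)

/-- `h_a(c)` as a unit -/
def hU (a : ℕ) (c : K) : GL D.Idx K := X.hadd.wordU (D.hWord a c)

theorem hU_mem (a : ℕ) (ha : a < D.nroots) (c : K) (hc : c ≠ 0) :
    X.hU a c ∈ D.diagonalSubgroup K :=
  Subgroup.subset_closure ⟨a, c, ha, hc, X.hadd.wordU_val _⟩

theorem hU_conj (a v : ℕ) (ha : a < D.nroots) (hv : v < D.nroots) (c : K) (hc : c ≠ 0) (u : K) :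
    X.hU a c * X.x v u * (X.hU a c)⁻¹ = X.x v (c ^ (pairD D a v) * u) := by
  obtain ⟨χ, h1, h2⟩ := diag_conj_char D X.hD (X.hU a c) (X.hU_mem a ha c hc)
  have e : (χ v : K) = c ^ pairD D a v := by
    have h3 : D.charDiag K χ = dK K D (pairD D a) c := by
      rw [← h1]
      exact (X.hadd.wordU_val _).trans (hMat_eq_dK_all D X.hD a ha c hc)
    have := congrFun (congrFun h3 (Sum.inr ⟨v, hv⟩)) (Sum.inr ⟨v, hv⟩)
    unfold ChevalleyDatum.charDiag dK at this
    rw [Matrix.diagonal_apply_eq, Matrix.diagonal_apply_eq] at this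
    exact this
  rw [← e]
  exact h2 v hv u

/-- lifts of root elements of the root `r` commute -/
def SR (r : ℕ) : Prop :=
  ∀ (b b' : E) (t u : K), X.Ψ b = X.x r t → X.Ψ b' = X.x r u → b * b' = b' * b

theorem sr_of_pair (r a : ℕ) (hr : r < D.nroots) (ha : a < D.nroots)
    (hp : pairD D a r = 1 ∨ pairD D a r = -1) : X.SR r := by
  obtain ⟨w, hw0, hw1, hw⟩ := exists_good_w X.hK
  apply same_root_comm X.Ψ X.hc (X.x r) (X.x_add r) (X.lift_x r) ?_ w hw0 hw1 hw
  intro w' hw'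
  rcases hp with hp | hp
  · obtain ⟨e, he⟩ := X.lift_diag _ (X.hU_mem a ha w' hw')
    refine ⟨e, fun t => ?_⟩
    rw [he, X.hU_conj a r ha hr w' hw', hp, zpow_one]
  · obtain ⟨e, he⟩ := X.lift_diag _ (X.hU_mem a ha w'⁻¹ (inv_ne_zero hw'))
    refine ⟨e, fun t => ?_⟩
    rw [he, X.hU_conj a r ha hr w'⁻¹ (inv_ne_zero hw'), hp, zpow_neg_one, inv_inv]

variable {T : FD} {Bs : List ℕ} {gH : ℕ} {baseH : List ℕ} {fuel : ℕ}
  (C : StCtx K D T Bs gH baseH fuel)

include C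

theorem lift_n (i : ℕ) : ∃ e, X.Ψ e = nUi C.hA X.hadd i :=
  X.hsurj _ (X.hadd.monomial_le (nUi_mem C.hA X.hadd i))

theorem n_conj (i : ℕ) (hi : i < D.rank) (s : ℕ) (hs : s < D.nroots) (t : K) :
    nUi C.hA X.hadd i * X.x s t * (nUi C.hA X.hadd i)⁻¹
      = X.x (wOf (Bs.getD i 0) s) (((etaOf (Bs.getD i 0) s : ℤ) : K) * t) :=
  conjU C.hA X.hadd hi (C.hB i hi) s hs t

theorem sr_transfer (i : ℕ) (hi : i < D.rank) (r : ℕ) (hr : r < D.nroots)
    (h : X.SR (wOf (Bs.getD i 0) r)) : X.SR r := by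
  obtain ⟨n, hn⟩ := X.lift_n C i
  intro b b' t u hb hb'
  have e1 : X.Ψ (n * b * n⁻¹) = X.x (wOf (Bs.getD i 0) r) (((etaOf (Bs.getD i 0) r : ℤ) : K) * t) := by
    rw [map_mul, map_mul, map_inv, hn, hb, X.n_conj C i hi r hr]
  have e2 : X.Ψ (n * b' * n⁻¹) = X.x (wOf (Bs.getD i 0) r) (((etaOf (Bs.getD i 0) r : ℤ) : K) * u) := by
    rw [map_mul, map_mul, map_inv, hn, hb', X.n_conj C i hi r hr]
  have := h _ _ _ _ e1 e2
  calc b * b' = n⁻¹ * ((n * b * n⁻¹) * (n * b' * n⁻¹)) * n := by group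
    _ = n⁻¹ * ((n * b' * n⁻¹) * (n * b * n⁻¹)) * n := by rw [this]
    _ = b' * b := by group

theorem sr_all (hsimple : ∀ j < D.rank, X.SR (D.simple j)) : ∀ r < D.nroots, X.SR r := by
  apply reach_all C.hA (fun r => X.SR r) Bs gH baseH fuel C.hr
  · intro s hs
    obtain ⟨j, hj, rfl⟩ := C.hbase s hs
    exact hsimple j hj
  · intro i hi s hs
    exact ((C.hB i hi).cert C.hA).w_lt s hs
  · intro i hi s hs h
    exact X.sr_transfer C i hi s hs h

end Ext

end Cfsg.Agent.Lib.Helper5.UC
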