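import Cfsg.Agent.Lib.Helper5.UC.Tables
import Cfsg.Agent.Lib.Helper5.UC.B2Long
import Mathlib

/-!
# The relations (R1), (R2) lift to every central extension of a Chevalley group over a field with
more than four elements (helper5)
-/

set_option autoImplicit false

namespace Cfsg.Agent.Lib.Helper5.UC

open Cfsg.Lie Cfsg.Agent.Lib.Helper5.Chev Cfsg.Agent.Lib.Helper5.St Cfsg.Agent.Lib.Helper5.Tw

namespace Ext

variable {K : Type*} [Field K] {D : ChevalleyDatum} {E : Type*} [Group E] (X : Ext K D E)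
  {T : FD} {Bs : List ℕ} {gH : ℕ} {baseH : List ℕ} {fuel : ℕ}

/-- the canonical lifts satisfy the relations (R1), (R2) -/
theorem rel_all (U : UCtx K D T Bs gH baseH fuel) :
    (∀ r < D.nroots, ∀ t : K, X.Ψ (X.Y r t) = X.hadd.xU r t) ∧ (∀ r < D.nroots, Rel1 X.Y r) ∧
      ∀ r < D.nroots, ∀ s < D.nroots, s ≠ r → s ≠ D.neg r → Rel2 X.Y D r s := by
  have hP := pfacts_of_check U.C U.pf
  have hsimple : ∀ j < D.rank, X.SR (D.simple j) := by
    intro j hj
    rcases U.sr j hj with h | ⟨hD, hj1⟩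
    · obtain ⟨a, ha, hp⟩ := srb_spec h
      exact X.sr_of_pair (D.simple j) a (simple_lt' U.C.hA hj) ha hp
    · subst hD
      subst hj1
      exact X.sr_B2_long
  have hSR := X.sr_all U.C hsimple
  have hgt := tgt_of_check U.C.hA U.gt
  have hpos : ∀ r s : ℕ, r < D.nroots → s < D.nroots → D.nroots / 2 ≤ r → D.nroots / 2 ≤ s →
      s ≠ r → Rel2 X.Y D r s := fun r s hr hs hpr hps hne =>
    X.pos_rel2 U.C hP hSR hgt D.nroots r s hr hs hpr hps hne (by omega)
  obtain ⟨g1, base1, fuel1, hr1, hrow⟩ := U.rows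
  have hall := X.rel2_all U.C hP hSR U.cw hpos g1 base1 fuel1 hr1 hrow
  refine ⟨X.map_Y' hP.self, X.rel1 hP.self hSR, fun r hr s hs hne hneg => ?_⟩
  rcases hall r hr s hs with h | h | h
  · exact absurd h hne
  · exact absurd h hneg
  · exact h

end Ext

section section_

variable {K : Type*} [Field K] {D : ChevalleyDatum} {E : Type*} [Group E] (Y : ℕ → K → E)

/-- the images of the generators -/
def genY : Fin D.nroots × K → E := fun p => Y p.1 p.2

omit [Field K] in
theorem lift_stX' (r : ℕ) (hr : r < D.nroots) (t : K) :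
    FreeGroup.lift (genY (D := D) Y) (D.stX r t) = Y r t := by
  unfold ChevalleyDatum.stX
  rw [dif_pos hr, FreeGroup.lift_apply_of]
  rfl

theorem lift_stWord' (w : List (ℕ × K)) (hw : ∀ p ∈ w, p.1 < D.nroots) :
    FreeGroup.lift (genY (D := D) Y) (D.stWord w) = wordG Y w := by
  unfold ChevalleyDatum.stWord wordG
  rw [map_list_prod, List.map_map]
  congr 1
  apply List.map_congr_left
  intro p hp
  exact lift_stX' Y p.1 (hw p hp) p.2

/-- the homomorphism from the group presented by (R1), (R2) given by elements satisfying these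
relations -/
theorem exists_hom_of_rel {T : FD} (hA : T.Agrees D) (h1 : ∀ r < D.nroots, Rel1 Y r)
    (h2 : ∀ r < D.nroots, ∀ s < D.nroots, s ≠ r → s ≠ D.neg r → Rel2 Y D r s) :
    ∃ τ : D.SteinbergCover K →* E, ∀ r < D.nroots, ∀ t : K, τ (D.scGen K r t) = Y r t := by
  have hrel : ∀ g ∈ D.steinbergRelsAB K, FreeGroup.lift (genY (D := D) Y) g = 1 := by
    rw [steinbergRelsAB_eq]
    rintro g (hg | hg)
    · obtain ⟨r, t₁, t₂, hr, rfl⟩ := hg
      rw [map_mul, map_mul, map_inv, lift_stX' Y r hr, lift_stX' Y r hr, lift_stX' Y r hr,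
        mul_inv_eq_one]
      exact h1 r hr t₁ t₂
    · obtain ⟨r, s, t, u, hr, hs, hne, hneg, rfl⟩ := hg
      have hlt : ∀ p ∈ D.commWord K r s t u, p.1 < D.nroots := by
        intro p hp'
        unfold ChevalleyDatum.commWord at hp'
        rw [List.mem_map] at hp'
        obtain ⟨c', hc', rfl⟩ := hp'
        rw [FD.commTerms_eq hA r s hr hs] at hc'
        exact FD.commTerms_lt hA r s hr hs c' hc'
      simp only [map_mul, map_inv]
      rw [lift_stX' Y r hr, lift_stX' Y s hs, lift_stWord' Y _ hlt]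
      rw [mul_inv_eq_one, mul_assoc, mul_assoc, inv_mul_eq_iff_eq_mul, inv_mul_eq_iff_eq_mul,
        ← mul_assoc]
      exact h2 r hr s hs hne hneg t u
  refine ⟨PresentedGroup.toGroup (f := genY (D := D) Y) hrel, fun r hr t => ?_⟩
  show PresentedGroup.toGroup hrel (PresentedGroup.mk _ (D.stX r t)) = _
  unfold ChevalleyDatum.stX
  rw [dif_pos hr]
  exact PresentedGroup.toGroup.of hrel

end section_

end Cfsg.Agent.Lib.Helper5.UC
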