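import Cfsg.Agent.Lib.Helper5.UC.Basic
import Mathlib

/-!
# Perfect groups and central extensions (helper5)
-/

set_option autoImplicit false

namespace Cfsg.Agent.Lib.Helper5.UC

open scoped commutatorElement

section

variable {P M N : Type*} [Group P] [Group M] [Group N]

/-- a homomorphism from a perfect group with central values is trivial -/
theorem hom_trivial_of_perfect (hperf : commutator P = ⊤) (δ : P →* M)
    (hcentral : ∀ (p : P) (q : P), δ p * δ q = δ q * δ p) : ∀ p, δ p = 1 := by
  have hle : commutator P ≤ δ.ker := by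
    rw [commutator_def, Subgroup.commutator_le]
    intro a _ b _
    rw [MonoidHom.mem_ker, map_commutatorElement]
    exact (comm_eq_one_iff' _ _).2 (hcentral a b)
  intro p
  have : p ∈ commutator P := by rw [hperf]; exact Subgroup.mem_top p
  exact hle this

/-- two homomorphisms from a perfect group which agree modulo a central subgroup are equal -/
theorem hom_eq_of_perfect (hperf : commutator P = ⊤) (φ₁ φ₂ : P →* M) (ζ : M →* N)
    (hζ : ∀ z : M, ζ z = 1 → ∀ m : M, z * m = m * z) (h : ζ.comp φ₁ = ζ.comp φ₂) : φ₁ = φ₂ := by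
  have hker : ∀ p, ζ (φ₁ p * (φ₂ p)⁻¹) = 1 := by
    intro p
    have := DFunLike.congr_fun h p
    simp only [MonoidHom.comp_apply] at this
    rw [map_mul, map_inv, this, mul_inv_cancel]
  let δ : P →* M := MonoidHom.mk' (fun p => φ₁ p * (φ₂ p)⁻¹) (by
    intro a b
    have hb := hζ _ (hker b)
    calc φ₁ (a * b) * (φ₂ (a * b))⁻¹ = φ₁ a * (φ₁ b * (φ₂ b)⁻¹) * (φ₂ a)⁻¹ := by
          rw [map_mul, map_mul, mul_inv_rev]
          group
      _ = φ₁ a * ((φ₂ a)⁻¹ * (φ₁ b * (φ₂ b)⁻¹)) := by rw [mul_assoc, hb]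
      _ = φ₁ a * (φ₂ a)⁻¹ * (φ₁ b * (φ₂ b)⁻¹) := by group)
  have hδ : ∀ p, δ p = 1 := by
    apply hom_trivial_of_perfect hperf δ
    intro p q
    exact hζ _ (hker p) _
  ext p
  have := hδ p
  exact mul_inv_eq_one.1 this

/-- the composite of two central extensions with a perfect source is a central extension -/
theorem central_comp_of_perfect (hperf : commutator P = ⊤) (ψ : P →* M) (θ : M →* N)
    (hψ : ∀ z : P, ψ z = 1 → ∀ p : P, z * p = p * z)
    (hθ : ∀ z : M, θ z = 1 → ∀ m : M, z * m = m * z) :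
    ∀ z : P, θ (ψ z) = 1 → ∀ p : P, z * p = p * z := by
  intro z hz
  have hc : ∀ p : P, ψ ⁅z, p⁆ = 1 := by
    intro p
    rw [map_commutatorElement]
    exact (comm_eq_one_iff' _ _).2 (hθ _ hz _)
  let δ : P →* P := MonoidHom.mk' (fun p => ⁅z, p⁆) (by
    intro a b
    rw [comm_mul_right']
    congr 1
    have h2 := hψ _ (hc b) a
    rw [← h2]
    group)
  have hδ : ∀ p, δ p = 1 := by
    apply hom_trivial_of_perfect hperf δ
    intro p q
    exact hψ _ (hc p) _
  intro p
  exact (comm_eq_one_iff' _ _).1 (hδ p)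

/-- the commutator subgroup of a central extension of a perfect group maps onto the group, and is
perfect -/
theorem commutator_surjective (hperfM : commutator M = ⊤) (ψ : P →* M)
    (hsurj : Function.Surjective ψ) : ∀ m : M, ∃ p ∈ commutator P, ψ p = m := by
  have h1 : (commutator P).map ψ = ⊤ := by
    rw [commutator_def, Subgroup.map_commutator, ← MonoidHom.range_eq_map,
      MonoidHom.range_eq_top.2 hsurj, ← commutator_def, hperfM]
  intro m
  have : m ∈ (commutator P).map ψ := by rw [h1]; exact Subgroup.mem_top m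
  rw [Subgroup.mem_map] at this
  exact this

theorem commutator_perfect (hperfM : commutator M = ⊤) (ψ : P →* M)
    (hsurj : Function.Surjective ψ) (hψ : ∀ z : P, ψ z = 1 → ∀ p : P, z * p = p * z) :
    commutator ↥(commutator P) = ⊤ := by
  have key : ∀ a b : P, ⁅a, b⁆ ∈ (commutator ↥(commutator P)).map (commutator P).subtype := by
    intro a b
    obtain ⟨a', ha', hea⟩ := commutator_surjective hperfM ψ hsurj (ψ a)
    obtain ⟨b', hb', heb⟩ := commutator_surjective hperfM ψ hsurj (ψ b)
    rw [comm_congr ψ hψ hea.symm heb.symm, Subgroup.mem_map]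
    refine ⟨⁅(⟨a', ha'⟩ : ↥(commutator P)), (⟨b', hb'⟩ : ↥(commutator P))⁆, ?_, rfl⟩
    exact Subgroup.commutator_mem_commutator (Subgroup.mem_top _) (Subgroup.mem_top _)
  have hle : commutator P ≤ (commutator ↥(commutator P)).map (commutator P).subtype := by
    intro x hx
    have hx' : x ∈ ⁅(⊤ : Subgroup P), ⊤⁆ := hx
    exact (Subgroup.commutator_le.2 (fun a _ b _ => key a b)) hx'
  rw [eq_top_iff]
  intro x _
  have := hle x.2
  rw [Subgroup.mem_map] at this
  obtain ⟨y, hy, e⟩ := this
  have : y = x := Subtype.ext e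
  rw [← this]
  exact hy

end

end Cfsg.Agent.Lib.Helper5.UC
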