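import Cfsg.Agent.Lib.Helper5.UC.Lifts
import Cfsg.Agent.Lib.Helper5.UC.Perfect
import Cfsg.Agent.Lib.Helper5.UC.DtAll
import Cfsg.Agent.Lib.Helper5.St.R3
import Mathlib

/-!
# The group presented by (R1), (R2) is centrally closed (helper5)

Steinberg's theorem: over a field with more than four elements, every central extension of the
group presented by the relations (R1), (R2) splits uniquely.
-/

set_option autoImplicit false

namespace Cfsg.Agent.Lib.Helper5.UC

open Cfsg.Lie Cfsg.Agent.Lib.Helper5.Chev Cfsg.Agent.Lib.Helper5.St Cfsg.Agent.Lib.Helper5.Tw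
open scoped commutatorElement

section perfect

variable {K : Type*} [Field K] {D : ChevalleyDatum} {Γ : Type*} [Group Γ] (R : RData K D Γ)
  {T : FD} {Bs : List ℕ} {gH : ℕ} {baseH : List ℕ} {fuel : ℕ}

include R in
/-- a group with root elements satisfying (R1), (R2) over a field with more than four elements is
perfect -/
theorem rdata_perfect (C : StCtx K D T Bs gH baseH fuel) (hK : ∃ s : Finset K, 4 < s.card) :
    commutator Γ = ⊤ := by
  obtain ⟨v, hv0, hv1⟩ := exists_pow_ne_one hK 2 (by norm_num) (by norm_num)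
  have hv : v ^ 2 - 1 ≠ 0 := sub_ne_zero.2 hv1
  have hall : ∀ r < D.nroots, ∀ t : K, R.X r t ∈ commutator Γ := by
    apply reach_all C.hA (fun r => ∀ t : K, R.X r t ∈ commutator Γ) Bs gH baseH fuel C.hr
    · intro s hs t
      obtain ⟨j, hj, rfl⟩ := C.hbase s hs
      have h1 := (R.r1 C j hj).h_conj_x v hv0 (t / (v ^ 2 - 1))
      have h2 : (R.r1 C j hj).x (v ^ 2 * (t / (v ^ 2 - 1)))
          = (R.r1 C j hj).x t * (R.r1 C j hj).x (t / (v ^ 2 - 1)) := by
        rw [(R.r1 C j hj).x_add]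
        congr 1
        field_simp
        ring
      have h3 : R.X (D.simple j) t
          = ⁅(R.r1 C j hj).h v, (R.r1 C j hj).x (t / (v ^ 2 - 1))⁆ := by
        rw [commutatorElement_def, h1, h2, mul_inv_cancel_right]
        rfl
      rw [h3]
      exact Subgroup.commutator_mem_commutator (Subgroup.mem_top _) (Subgroup.mem_top _)
    · intro i hi s hs
      exact ((C.hB i hi).cert C.hA).w_lt s hs
    · intro i hi s hs h t
      have F := C.facts R.hadd i hi
      obtain ⟨c, hc, e⟩ := R.nbar_conj F 1 one_ne_zero s hs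
      have e1 : R.X s t = (R.nbar (D.simple i) 1)⁻¹ * R.X (wOf (Bs.getD i 0) s) (c * t) *
          (R.nbar (D.simple i) 1)⁻¹⁻¹ := by
        rw [← e t]
        group
      rw [e1]
      exact (inferInstance : (commutator Γ).Normal).conj_mem _ (h (c * t)) _
  rw [eq_top_iff, ← R.gen, Subgroup.closure_le]
  rintro g ⟨r, hr, t, rfl⟩
  exact hall r hr t

end perfect

section universal

variable {K : Type*} [Field K]

/-- Steinberg: the group presented by (R1), (R2) over a field with more than four elements is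
centrally closed -/
theorem cover_universal (hK5 : ∃ s : Finset K, 4 < s.card) (D : ChevalleyDatum)
    (hD : D ∈ [chevG2, chevB2, chevD4, chevF4, chevE6, chevE7, chevE8])
    {G₁ E : Type*} [Group G₁] [Group E] (π₁ : E →* G₁) (hπ : Function.Surjective π₁)
    (hc : π₁.ker ≤ Subgroup.center E) (σ : D.SteinbergCover K →* G₁) :
    ∃! τ : D.SteinbergCover K →* E, π₁.comp τ = σ := by
  obtain ⟨T, Bs, gH, baseH, fuel, U⟩ := uCtx_known K D hD
  have hperfΔ : commutator (D.SteinbergCover K) = ⊤ :=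
    rdata_perfect (coverRData (K := K) hD) U.C hK5
  have hπc : ∀ z : E, π₁ z = 1 → ∀ m : E, z * m = m * z := by
    intro z hz m
    exact (Subgroup.mem_center_iff.1 (hc (MonoidHom.mem_ker.2 hz)) m).symm
  have hθc : ∀ z : D.SteinbergCover K, (coverRData (K := K) hD).θ z = 1 →
      ∀ m : D.SteinbergCover K, z * m = m * z := by
    intro z hz m
    exact (Subgroup.mem_center_iff.1
      ((coverRData (K := K) hD).ker_le_center U.C (MonoidHom.mem_ker.2 hz)) m).symm
  -- uniqueness
  have huniq : ∀ τ τ' : D.SteinbergCover K →* E, π₁.comp τ = σ → π₁.comp τ' = σ → τ = τ' := by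
    intro τ τ' h h'
    exact hom_eq_of_perfect hperfΔ τ τ' π₁ hπc (h.trans h'.symm)
  -- the pullback
  let P : Subgroup (E × D.SteinbergCover K) :=
    (π₁.comp (MonoidHom.fst E (D.SteinbergCover K))).eqLocus
      (σ.comp (MonoidHom.snd E (D.SteinbergCover K)))
  have hP : ∀ p : ↥P, π₁ p.1.1 = σ p.1.2 := fun p => p.2
  let ψ₀ : ↥P →* D.SteinbergCover K := (MonoidHom.snd E (D.SteinbergCover K)).comp P.subtype
  have hψ₀ : ∀ p : ↥P, ψ₀ p = p.1.2 := fun p => rfl
  have hsurj₀ : Function.Surjective ψ₀ := by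
    intro d
    obtain ⟨e, he⟩ := hπ (σ d)
    exact ⟨⟨(e, d), he⟩, rfl⟩
  have hcentral₀ : ∀ z : ↥P, ψ₀ z = 1 → ∀ p : ↥P, z * p = p * z := by
    intro z hz p
    rw [hψ₀] at hz
    have h1 : π₁ z.1.1 = 1 := by rw [hP z, hz, map_one]
    apply Subtype.ext
    apply Prod.ext
    · exact hπc _ h1 _
    · show z.1.2 * p.1.2 = p.1.2 * z.1.2
      rw [hz, one_mul, mul_one]
  have hperfP' : commutator ↥(commutator ↥P) = ⊤ :=
    commutator_perfect hperfΔ ψ₀ hsurj₀ hcentral₀
  let ψ : ↥(commutator ↥P) →* D.SteinbergCover K := ψ₀.comp (commutator ↥P).subtype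
  have hψsurj : ∀ d : D.SteinbergCover K, ∃ p : ↥(commutator ↥P), ψ p = d := by
    intro d
    obtain ⟨p, hp, e⟩ := commutator_surjective hperfΔ ψ₀ hsurj₀ d
    exact ⟨⟨p, hp⟩, e⟩
  have hψc : ∀ z : ↥(commutator ↥P), ψ z = 1 → ∀ p : ↥(commutator ↥P), z * p = p * z := by
    intro z hz p
    apply Subtype.ext
    exact hcentral₀ z.1 hz p.1
  have hΨc := central_comp_of_perfect hperfP' ψ (coverRData (K := K) hD).θ hψc hθc
  have hΨsurj : ∀ g ∈ D.group K, ∃ e : ↥(commutator ↥P),
      ((coverRData (K := K) hD).θ.comp ψ) e = g := by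
    intro g hg
    obtain ⟨d, hd⟩ := (coverRData (K := K) hD).thetaG_surjective ⟨g, hg⟩
    obtain ⟨p, hp⟩ := hψsurj d
    refine ⟨p, ?_⟩
    rw [MonoidHom.comp_apply, hp, ← (coverRData (K := K) hD).thetaG_val, hd]
  let X : Ext K D ↥(commutator ↥P) :=
    ⟨hD, (coverRData (K := K) hD).θ.comp ψ, hΨsurj, hΨc, hK5⟩
  obtain ⟨h1, h2, h3⟩ := X.rel_all U
  obtain ⟨τ₀, hτ₀⟩ := exists_hom_of_rel X.Y U.C.hA h2 h3
  have hcomp : (coverRData (K := K) hD).θ.comp (ψ.comp τ₀)
      = (coverRData (K := K) hD).θ.comp (MonoidHom.id (D.SteinbergCover K)) := by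
    apply MonoidHom.eq_of_eqOn_dense (coverRData (K := K) hD).gen
    rintro g ⟨r, hr, t, rfl⟩
    show (coverRData (K := K) hD).θ (ψ (τ₀ ((coverRData (K := K) hD).X r t)))
      = (coverRData (K := K) hD).θ ((coverRData (K := K) hD).X r t)
    rw [coverRData_X, hτ₀ r hr t, ← coverRData_X hD, (coverRData (K := K) hD).hθ r hr t]
    exact h1 r hr t
  have hid : ψ.comp τ₀ = MonoidHom.id (D.SteinbergCover K) :=
    hom_eq_of_perfect hperfΔ _ _ (coverRData (K := K) hD).θ hθc hcomp
  let τ : D.SteinbergCover K →* E :=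
    (MonoidHom.fst E (D.SteinbergCover K)).comp (P.subtype.comp ((commutator ↥P).subtype.comp τ₀))
  have hτ : π₁.comp τ = σ := by
    apply MonoidHom.ext
    intro d
    show π₁ (τ₀ d).1.1.1 = σ d
    rw [hP (τ₀ d).1]
    have := DFunLike.congr_fun hid d
    exact congrArg σ this
  exact ⟨τ, hτ, fun τ' hτ' => huniq τ' τ hτ' hτ⟩

end universal

end Cfsg.Agent.Lib.Helper5.UC
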