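import Cfsg.Agent.Lib.Helper5.St.GInj
import Mathlib

/-!
# Ordered products for families of elements satisfying part of the relations (R1), (R2) (helper5)
-/

set_option autoImplicit false

namespace Cfsg.Agent.Lib.Helper5.UC

open Cfsg.Lie Cfsg.Agent.Lib.Helper5.Chev Cfsg.Agent.Lib.Helper5.St Cfsg.Agent.Lib.Helper5.Tw

section

variable {K : Type*} [Field K] {D : ChevalleyDatum} {E : Type*} [Group E] (Y : ℕ → K → E)

/-- the relation (R1) for the root `r` -/
def Rel1 (r : ℕ) : Prop := ∀ t u : K, Y r t * Y r u = Y r (t + u)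

/-- the relation (R2) for the pair `(r, s)` -/
def Rel2 (D : ChevalleyDatum) (r s : ℕ) : Prop :=
  ∀ t u : K, Y s u * Y r t = Y r t * Y s u * wordG Y (D.commWord K r s t u)

variable {Y}

theorem Rel1.zero {r : ℕ} (h : Rel1 Y r) : Y r 0 = 1 := by
  have := h 0 0
  rw [add_zero] at this
  exact mul_eq_left.1 this

theorem Rel1.inv {r : ℕ} (h : Rel1 Y r) (t : K) : (Y r t)⁻¹ = Y r (-t) := by
  rw [inv_eq_iff_mul_eq_one, h, add_neg_cancel, h.zero]

theorem Rel2.conj {r s : ℕ} (h : Rel2 Y D r s) (t u : K) :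
    (Y r t)⁻¹ * Y s u * Y r t = Y s u * wordG Y (D.commWord K r s t u) := by
  rw [mul_assoc, inv_mul_eq_iff_eq_mul, ← mul_assoc]
  exact h t u

variable (Y)

/-- the relations needed for the ordered products along a list -/
def GoodP (D : ChevalleyDatum) : List ℕ → Prop
  | [] => True
  | r :: B => (Rel1 Y r ∧ ∀ s ∈ B, Rel2 Y D r s) ∧ GoodP D B

/-- the generators of the subgroup of a list of roots -/
def genULY (L : List ℕ) : Set E := {g | ∃ r ∈ L, ∃ t : K, g = Y r t}

/-- the subgroup generated by the elements of a list of roots -/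
def ULY (L : List ℕ) : Subgroup E := Subgroup.closure (genULY Y L)

omit [Field K] in
theorem Y_mem_ULY (L : List ℕ) (r : ℕ) (hr : r ∈ L) (t : K) : Y r t ∈ ULY Y L :=
  Subgroup.subset_closure ⟨r, hr, t, rfl⟩

omit [Field K] in
theorem ULY_mono {L L' : List ℕ} (h : ∀ r ∈ L, r ∈ L') : ULY Y L ≤ ULY Y L' := by
  apply Subgroup.closure_mono
  rintro g ⟨r, hr, t, hg⟩
  exact ⟨r, h r hr, t, hg⟩

omit [Field K] in
theorem wordG_mem_ULY (L : List ℕ) (w : List (ℕ × K)) (h : ∀ p ∈ w, p.1 ∈ L) :
    wordG Y w ∈ ULY Y L := by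
  unfold wordG
  apply Subgroup.list_prod_mem
  intro g hg
  rw [List.mem_map] at hg
  obtain ⟨p, hp, rfl⟩ := hg
  exact Y_mem_ULY Y L p.1 (h p hp) _

omit [Field K] in
theorem ULY_nil : ULY Y ([] : List ℕ) = ⊥ := by
  unfold ULY
  rw [Subgroup.closure_eq_bot_iff]
  rintro g ⟨r, hr, -⟩
  exact absurd hr List.not_mem_nil

/-- the subgroup of the elements of one root -/
def YS (r : ℕ) : Subgroup E := Subgroup.closure {g | ∃ t : K, g = Y r t}

variable {Y}

theorem mem_YS_iff {r : ℕ} (h : Rel1 Y r) (g : E) : g ∈ YS Y r ↔ ∃ t : K, g = Y r t := by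
  constructor
  · intro hg
    induction hg using Subgroup.closure_induction with
    | mem x hx => exact hx
    | one => exact ⟨0, h.zero.symm⟩
    | mul x y _ _ hx hy =>
      obtain ⟨a, rfl⟩ := hx
      obtain ⟨b, rfl⟩ := hy
      exact ⟨a + b, h a b⟩
    | inv x _ hx =>
      obtain ⟨a, rfl⟩ := hx
      exact ⟨-a, h.inv a⟩
  · rintro ⟨t, rfl⟩
    exact Subgroup.subset_closure ⟨t, rfl⟩

variable (Y)

omit [Field K] in
theorem ULY_cons (r : ℕ) (B : List ℕ) : ULY Y (r :: B) = YS Y r ⊔ ULY Y B := by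
  apply le_antisymm
  · unfold ULY
    rw [Subgroup.closure_le]
    rintro g ⟨s, hs, t, hg⟩
    rcases List.mem_cons.1 hs with rfl | hs
    · apply Subgroup.mem_sup_left
      exact Subgroup.subset_closure ⟨t, hg⟩
    · apply Subgroup.mem_sup_right
      exact Subgroup.subset_closure ⟨s, hs, t, hg⟩
  · apply sup_le
    · unfold YS ULY
      apply Subgroup.closure_mono
      rintro g ⟨t, hg⟩
      exact ⟨r, List.mem_cons_self, t, hg⟩
    · exact ULY_mono Y (fun s hs => List.mem_cons_of_mem _ hs)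

variable {Y}

/-- an element normalises the subgroup of a list closed under the terms of the commutator
formula with it -/
theorem Y_mem_normalizer_ULY (r : ℕ) (B : List ℕ) (hg : GoodL D (r :: B))
    (hp : GoodP Y D (r :: B)) (t : K) :
    Y r t ∈ Subgroup.normalizer (ULY Y B : Set E) := by
  have key : ∀ (t' : K) (g : E), g ∈ genULY Y B → (Y r t')⁻¹ * g * Y r t' ∈ ULY Y B := by
    rintro t' g ⟨s, hs, u, rfl⟩
    obtain ⟨-, -, -, hterms⟩ := hg.1.2 s hs
    rw [(hp.1.2 s hs).conj t' u]
    apply Subgroup.mul_mem _ (Y_mem_ULY Y B s hs u)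
    apply wordG_mem_ULY
    intro p hp'
    obtain ⟨c, hc, e⟩ := RData.commWord_mem r s t' u p hp'
    rw [e]
    exact hterms c hc
  have hinv : (Y r t)⁻¹ = Y r (-t) := hp.1.1.inv t
  unfold ULY
  apply mem_normalizer_closure
  · intro g hg'
    have := key (-t) g hg'
    rw [← hinv, inv_inv] at this
    exact this
  · intro g hg'
    exact key t g hg'

theorem YS_le_normalizer_ULY (r : ℕ) (B : List ℕ) (hg : GoodL D (r :: B))
    (hp : GoodP Y D (r :: B)) : YS Y r ≤ Subgroup.normalizer (ULY Y B : Set E) := by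
  unfold YS
  rw [Subgroup.closure_le]
  rintro g ⟨t, rfl⟩
  exact Y_mem_normalizer_ULY r B hg hp t

/-- every element of the subgroup of a good list is an ordered product -/
theorem exists_wordLY : ∀ L : List ℕ, GoodL D L → GoodP Y D L → ∀ g ∈ ULY Y L,
      ∃ t : ℕ → K, g = wordG Y (wordL L t)
  | [], _, _, g, hg => by
    rw [ULY_nil, Subgroup.mem_bot] at hg
    exact ⟨fun _ => 0, by rw [hg]; rfl⟩
  | r :: B, hgood, hp, g, hg => by
    rw [ULY_cons, ← SetLike.mem_coe, Subgroup.coe_mul_of_left_le_normalizer_right _ _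
      (YS_le_normalizer_ULY r B hgood hp), Set.mem_mul] at hg
    obtain ⟨x, hx, g', hg', rfl⟩ := hg
    obtain ⟨a, rfl⟩ := (mem_YS_iff hp.1.1 x).1 hx
    obtain ⟨t', rfl⟩ := exists_wordLY B hgood.2 hp.2 g' hg'
    refine ⟨Function.update t' r a, ?_⟩
    have hnot : ∀ s ∈ B, s ≠ r := fun s hs => (hgood.1.2 s hs).2.1
    have e1 : wordL (r :: B) (Function.update t' r a) = (r, a) :: wordL B t' := by
      unfold wordL
      rw [List.map_cons, Function.update_self]
      congr 1
      apply List.map_congr_left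
      intro s hs
      rw [Function.update_of_ne (hnot s hs)]
    rw [e1, wordG_cons]

theorem GoodP.rel1 : ∀ {L : List ℕ}, GoodP Y D L → ∀ r ∈ L, Rel1 Y r
  | [], _, r, hr => absurd hr List.not_mem_nil
  | a :: B, h, r, hr => by
    rcases List.mem_cons.1 hr with rfl | hr
    · exact h.1.1
    · exact GoodP.rel1 h.2 r hr

/-- a homomorphism matching the root elements is injective on the subgroup of a good list with
unique ordered products -/
theorem inj_ULY (hadd : AllAdd K D) (Ψ : E →* GL D.Idx K)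
    (hΨ : ∀ r < D.nroots, ∀ t : K, Ψ (Y r t) = hadd.xU r t) (L : List ℕ) (hg : GoodL D L)
    (hp : GoodP Y D L) (hinj : RData.InjL K D hadd L) (g : E) (hgL : g ∈ ULY Y L) (h1 : Ψ g = 1) :
    g = 1 := by
  obtain ⟨t, rfl⟩ := exists_wordLY L hg hp g hgL
  have hlt : ∀ p ∈ wordL L t, p.1 < D.nroots := by
    intro p hp'
    unfold wordL at hp'
    rw [List.mem_map] at hp'
    obtain ⟨r, hr, rfl⟩ := hp'
    exact RData.goodL_lt hg r hr
  have hword : ∀ w : List (ℕ × K), (∀ p ∈ w, p.1 < D.nroots) → Ψ (wordG Y w) = hadd.wordU w := by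
    intro w
    induction w with
    | nil =>
      intro _
      rw [wordG_nil, map_one]
      rfl
    | cons a w ih =>
      intro hw
      rw [wordG_cons, map_mul, hΨ a.1 (hw a List.mem_cons_self),
        ih (fun p hp' => hw p (List.mem_cons_of_mem _ hp')), wordU_cons]
  rw [hword _ hlt] at h1
  have h0 : hadd.wordU (wordL L fun _ => (0 : K)) = 1 := by
    unfold AllAdd.wordU wordL
    rw [List.map_map]
    apply List.prod_eq_one
    intro x hx
    rw [List.mem_map] at hx
    obtain ⟨r, _, rfl⟩ := hx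
    apply Units.ext
    show D.x K r 0 = 1
    exact x_zero r
  have ht := hinj t (fun _ => 0) (h1.trans h0.symm)
  have : wordL L t = wordL L fun _ => (0 : K) := wordL_congr L _ _ ht
  rw [this]
  unfold wordG wordL
  rw [List.map_map]
  apply List.prod_eq_one
  intro x hx
  rw [List.mem_map] at hx
  obtain ⟨r, hr, rfl⟩ := hx
  exact (hp.rel1 r hr).zero

end

end Cfsg.Agent.Lib.Helper5.UC
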