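import Cfsg.Agent.Lib.Helper5.UC.Step
import Mathlib

/-!
# The relation (R2) for the pairs of positive roots (helper5)
-/

set_option autoImplicit false

namespace Cfsg.Agent.Lib.Helper5.UC

open Cfsg.Lie Cfsg.Agent.Lib.Helper5.Chev Cfsg.Agent.Lib.Helper5.St Cfsg.Agent.Lib.Helper5.Tw
open scoped commutatorElement

section lists

variable {K : Type*} [Field K] {D : ChevalleyDatum} {E : Type*} [Group E] {Y : ℕ → K → E}

/-- a sublist of a good order closed under the terms of the commutator formula is a good order -/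
theorem goodL_filter (P : ℕ → Bool) : ∀ L : List ℕ, GoodL D L →
    (∀ a ∈ L, ∀ b ∈ L, P a = true → P b = true → b ≠ a →
      ∀ c ∈ D.commTerms a b, P c.1 = true) → GoodL D (L.filter P)
  | [], _, _ => trivial
  | a :: B, hg, hP => by
    have ih := goodL_filter P B hg.2
      (fun x hx y hy => hP x (List.mem_cons_of_mem _ hx) y (List.mem_cons_of_mem _ hy))
    by_cases ha : P a = true
    · rw [List.filter_cons_of_pos ha]
      refine ⟨⟨hg.1.1, fun s hs => ?_⟩, ih⟩
      rw [List.mem_filter] at hs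
      obtain ⟨h1, h2, h3, h4⟩ := hg.1.2 s hs.1
      refine ⟨h1, h2, h3, fun c hc => ?_⟩
      rw [List.mem_filter]
      exact ⟨h4 c hc, hP a List.mem_cons_self s (List.mem_cons_of_mem _ hs.1) ha hs.2 h2 c hc⟩
    · rw [List.filter_cons_of_neg ha]
      exact ih

/-- the relations along a good order, from the relations of all pairs -/
theorem goodP_of : ∀ L : List ℕ, GoodL D L → (∀ r ∈ L, Rel1 Y r) →
    (∀ a ∈ L, ∀ b ∈ L, b ≠ a → Rel2 Y D a b) → GoodP Y D L
  | [], _, _, _ => trivial
  | a :: B, hg, h1, h2 => by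
    refine ⟨⟨h1 a List.mem_cons_self, fun s hs => ?_⟩, goodP_of B hg.2
      (fun r hr => h1 r (List.mem_cons_of_mem _ hr))
      (fun x hx y hy => h2 x (List.mem_cons_of_mem _ hx) y (List.mem_cons_of_mem _ hy))⟩
    exact h2 a List.mem_cons_self s (List.mem_cons_of_mem _ hs) (hg.1.2 s hs).2.1

end lists

namespace Ext

variable {K : Type*} [Field K] {D : ChevalleyDatum} {E : Type*} [Group E] (X : Ext K D E)

/-- the properties of the pairing used for the torus elements -/
structure PFacts (D : ChevalleyDatum) : Prop where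
  self : ∀ r < D.nroots, pairD D r r = 2
  pair : ∀ r < D.nroots, ∀ s < D.nroots, s ≠ r → s ≠ D.neg r →
    pairD D s r = 0 ∨ (1 ≤ pairD D s r * pairD D r s ∧ pairD D s r * pairD D r s ≤ 3)

/-- a torus element centralising `X_r` and acting non-trivially on `X_s` -/
theorem exists_torus (hP : PFacts D) (r s : ℕ) (hr : r < D.nroots) (hs : s < D.nroots)
    (hne : s ≠ r) (hneg : s ≠ D.neg r) :
    ∃ h ∈ D.diagonalSubgroup K, ∃ v : K, v ≠ 1 ∧ (∀ t, h * X.x r t * h⁻¹ = X.x r t) ∧
      (∀ u, h * X.x s u * h⁻¹ = X.x s (v * u)) := by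
  rcases hP.pair r hr s hs hne hneg with h0 | ⟨h1, h3⟩
  · obtain ⟨v, hv0, hv⟩ := exists_pow_ne_one X.hK 2 (by norm_num) (by norm_num)
    refine ⟨X.hU s v, X.hU_mem s hs v hv0, v ^ 2, hv, fun t => ?_, fun u => ?_⟩
    · rw [X.hU_conj s r hs hr v hv0, h0, zpow_zero, one_mul]
    · rw [X.hU_conj s s hs hs v hv0, hP.self s hs, zpow_ofNat]
  · set p := pairD D s r with hp
    set q := pairD D r s with hq
    obtain ⟨d, hd⟩ : ∃ d : ℕ, (d : ℤ) = 4 - p * q := ⟨(4 - p * q).toNat, by omega⟩
    obtain ⟨v, hv0, hv⟩ := exists_pow_ne_one X.hK d (by omega) (by omega)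
    have hc1 : v ^ (-p) ≠ 0 := zpow_ne_zero _ hv0
    have hc2 : v ^ 2 ≠ 0 := pow_ne_zero _ hv0
    refine ⟨X.hU r (v ^ (-p)) * X.hU s (v ^ 2),
      Subgroup.mul_mem _ (X.hU_mem r hr _ hc1) (X.hU_mem s hs _ hc2), v ^ d, hv,
      fun t => ?_, fun u => ?_⟩
    · have e : X.hU r (v ^ (-p)) * X.hU s (v ^ 2) * X.x r t * (X.hU r (v ^ (-p)) * X.hU s (v ^ 2))⁻¹
          = X.hU r (v ^ (-p)) * (X.hU s (v ^ 2) * X.x r t * (X.hU s (v ^ 2))⁻¹) *
            (X.hU r (v ^ (-p)))⁻¹ := by group
      rw [e, X.hU_conj s r hs hr _ hc2, X.hU_conj r r hr hr _ hc1, hP.self r hr, ← hp]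
      congr 1
      have : (v ^ (-p)) ^ (2 : ℤ) * (v ^ 2) ^ p = 1 := by
        rw [← zpow_natCast v 2, ← zpow_mul, ← zpow_mul, ← zpow_add₀ hv0]
        have : -p * 2 + ((2 : ℕ) : ℤ) * p = 0 := by push_cast; ring
        rw [this, zpow_zero]
      rw [← mul_assoc, this, one_mul]
    · have e : X.hU r (v ^ (-p)) * X.hU s (v ^ 2) * X.x s u * (X.hU r (v ^ (-p)) * X.hU s (v ^ 2))⁻¹
          = X.hU r (v ^ (-p)) * (X.hU s (v ^ 2) * X.x s u * (X.hU s (v ^ 2))⁻¹) *
            (X.hU r (v ^ (-p)))⁻¹ := by group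
      rw [e, X.hU_conj s s hs hs _ hc2, X.hU_conj r s hr hs _ hc1, hP.self s hs, ← hq]
      congr 1
      have : (v ^ (-p)) ^ q * (v ^ 2) ^ (2 : ℤ) = v ^ d := by
        rw [← zpow_natCast v 2, ← zpow_mul, ← zpow_mul, ← zpow_add₀ hv0, ← zpow_natCast v d, hd]
        congr 1
        push_cast
        ring
      rw [← mul_assoc, this]

variable {T : FD} {Bs : List ℕ} {gH : ℕ} {baseH : List ℕ} {fuel : ℕ}
  (C : StCtx K D T Bs gH baseH fuel)

include C in
/-- the relation (R2) for all pairs of positive roots -/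
theorem pos_rel2 (hP : PFacts D) (hSR : ∀ r < D.nroots, X.SR r)
    (hgt : ∀ a < D.nroots, ∀ b < D.nroots, D.nroots / 2 ≤ a → D.nroots / 2 ≤ b → b ≠ a →
      ∀ c ∈ D.commTerms a b, a < c.1 ∧ b < c.1) :
    ∀ k r s : ℕ, r < D.nroots → s < D.nroots → D.nroots / 2 ≤ r → D.nroots / 2 ≤ s → s ≠ r →
      D.nroots ≤ max r s + k → Rel2 X.Y D r s := by
  have heven := even_all D X.hD
  intro k
  induction k with
  | zero =>
    intro r s hr hs _ _ _ hk
    exfalso
    have : max r s < D.nroots := max_lt hr hs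
    omega
  | succ k ih =>
    intro r s hr hs hpr hps hne hk
    by_cases hk' : D.nroots ≤ max r s + k
    · exact ih r s hr hs hpr hps hne hk'
    · have hm : ∀ a b : ℕ, max r s < max a b → D.nroots ≤ max a b + k := by
        intro a b h
        omega
      have hneg : s ≠ D.neg r := by
        have := neg_lt_half_all D X.hD r hr hpr
        omega
      let P : ℕ → Bool := fun x => decide (x = s) || decide (max r s < x)
      have hPiff : ∀ x, P x = true ↔ x = s ∨ max r s < x := by
        intro x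
        simp [P]
      have hmemM : ∀ x, x ∈ (posL D).filter P ↔
          (D.nroots / 2 ≤ x ∧ x < D.nroots) ∧ (x = s ∨ max r s < x) := by
        intro x
        rw [List.mem_filter, mem_posL heven, hPiff]
      have hclosed : ∀ a ∈ posL D, ∀ b ∈ posL D, P a = true → P b = true → b ≠ a →
          ∀ c ∈ D.commTerms a b, P c.1 = true := by
        intro a ha b hb hPa hPb hba c hc
        rw [mem_posL heven] at ha hb
        rw [hPiff] at hPa hPb ⊢
        obtain ⟨h1, h2⟩ := hgt a ha.2 b hb.2 ha.1 hb.1 hba c hc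
        right
        rcases hPa with rfl | hPa
        · rcases hPb with rfl | hPb
          · exact absurd rfl hba
          · omega
        · omega
      have hgood : GoodL D ((posL D).filter P) := goodL_filter P (posL D) C.good hclosed
      obtain ⟨h, hh, v, hv, h1, h2⟩ := X.exists_torus hP r s hr hs hne hneg
      refine X.step hP.self hSR r s hr hs hne hneg ((posL D).filter P) ?_ ?_ hgood ?_
        (injL_filter X.hD X.hadd P) h hh v hv h1 h2
      · rw [hmemM]
        exact ⟨⟨hps, hs⟩, Or.inl rfl⟩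
      · intro c hc
        obtain ⟨h1, h2⟩ := hgt r hr s hs hpr hps hne c hc
        have hclt : c.1 < D.nroots := by
          rw [FD.commTerms_eq C.hA r s hr hs] at hc
          exact FD.commTerms_lt C.hA r s hr hs c hc
        rw [hmemM]
        refine ⟨⟨by omega, hclt⟩, Or.inr ?_⟩
        exact max_lt h1 h2
      · apply goodP_of _ hgood
        · intro a ha
          exact X.rel1 hP.self hSR a (RData.goodL_lt hgood a ha)
        · intro a ha b hb hba
          rw [hmemM] at ha hb
          apply ih a b ha.1.2 hb.1.2 ha.1.1 hb.1.1 hba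
          apply hm
          rcases ha.2 with rfl | h1
          · rcases hb.2 with rfl | h2
            · exact absurd rfl hba
            · exact lt_of_lt_of_le h2 (le_max_right _ _)
          · exact lt_of_lt_of_le h1 (le_max_left _ _)

end Ext

end Cfsg.Agent.Lib.Helper5.UC
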