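import Cfsg.Agent.Lib.Helper5.UC.Transport
import Mathlib

/-!
# The boolean checks on the root tables used for the universality of Steinberg's cover (helper5)
-/

set_option autoImplicit false

namespace Cfsg.Agent.Lib.Helper5.UC

open Cfsg.Lie Cfsg.Agent.Lib.Helper5.Chev Cfsg.Agent.Lib.Helper5.St Cfsg.Agent.Lib.Helper5.Tw

/-- the terms of the commutator formula of two positive roots come later than both roots -/
def tgtb (T : FD) : Bool :=
  forceNat T.nroots fun n => forceNat (Nat.div n 2) fun h =>
    allBelow n fun a => Nat.blt a h || allBelow n fun b => Nat.blt b h || Nat.beq b a ||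
      (T.commTerms a b).all fun c => Nat.blt a c.1 && Nat.blt b c.1

theorem tgt_of_check {T : FD} {D : ChevalleyDatum} (hA : T.Agrees D) (h : tgtb T = true) :
    ∀ a < D.nroots, ∀ b < D.nroots, D.nroots / 2 ≤ a → D.nroots / 2 ≤ b → b ≠ a →
      ∀ c ∈ D.commTerms a b, a < c.1 ∧ b < c.1 := by
  unfold tgtb at h
  rw [forceNat_eq, forceNat_eq, hA.nroots_eq] at h
  have e : D.nroots.div 2 = D.nroots / 2 := rfl
  rw [e] at h
  intro a ha b hb hpa hpb hba c hc
  have h1 := allBelow_spec _ _ h a ha
  rw [Bool.or_eq_true, Nat.blt_eq] at h1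
  rcases h1 with h1 | h1
  · omega
  · have h2 := allBelow_spec _ _ h1 b hb
    rw [Bool.or_eq_true, Bool.or_eq_true, Nat.blt_eq, FD.nbeq] at h2
    rcases h2 with (h2 | h2) | h2
    · omega
    · exact absurd h2 hba
    · rw [List.all_eq_true] at h2
      rw [FD.commTerms_eq hA a b ha hb] at hc
      have := h2 c hc
      rw [Bool.and_eq_true, Nat.blt_eq, Nat.blt_eq] at this
      exact this

/-- the check of the transformation of the terms of the commutator formula -/
def commWb (T : FD) (Bs : List ℕ) : Bool :=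
  forceNat T.rank fun l => forceNat T.nroots fun n =>
    allBelow l fun i => allBelow n fun r => allBelow n fun s =>
      decide (T.commTerms (wOf (Bs.getD i 0) r) (wOf (Bs.getD i 0) s)
        = (T.commTerms r s).map (phiW (wOf (Bs.getD i 0)) (etaOf (Bs.getD i 0))
            (etaOf (Bs.getD i 0) r) (etaOf (Bs.getD i 0) s)))

theorem commW_of_check {T : FD} {D : ChevalleyDatum} {Bs : List ℕ} (hA : T.Agrees D)
    (h : commWb T Bs = true) : CommW T D Bs := by
  unfold commWb at h
  rw [forceNat_eq, forceNat_eq, hA.nroots_eq, hA.rank_eq] at h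
  intro i hi r hr s hs
  exact of_decide_eq_true (allBelow_spec _ _ (allBelow_spec _ _ (allBelow_spec _ _ h i hi) r hr) s hs)

/-- the check of the properties of the pairing for the pairs whose first root is fundamental -/
def pfb (D : ChevalleyDatum) : Bool :=
  (List.range D.rank).all fun j =>
    decide (pairD D (D.simple j) (D.simple j) = 2) &&
    (List.range D.nroots).all fun s =>
      decide (s = D.simple j) || decide (s = D.neg (D.simple j)) ||
        (decide (pairD D s (D.simple j) = 0) ||
          (decide (1 ≤ pairD D s (D.simple j) * pairD D (D.simple j) s) &&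
           decide (pairD D s (D.simple j) * pairD D (D.simple j) s ≤ 3)))

theorem pfb_spec {D : ChevalleyDatum} (h : pfb D = true) (j : ℕ) (hj : j < D.rank) :
    pairD D (D.simple j) (D.simple j) = 2 ∧ ∀ s < D.nroots, s ≠ D.simple j →
      s ≠ D.neg (D.simple j) → pairD D s (D.simple j) = 0 ∨
        (1 ≤ pairD D s (D.simple j) * pairD D (D.simple j) s ∧
          pairD D s (D.simple j) * pairD D (D.simple j) s ≤ 3) := by
  unfold pfb at h
  rw [List.all_eq_true] at h
  have h1 := h j (List.mem_range.2 hj)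
  rw [Bool.and_eq_true, List.all_eq_true] at h1
  refine ⟨of_decide_eq_true h1.1, fun s hs hne hneg => ?_⟩
  have h2 := h1.2 s (List.mem_range.2 hs)
  simp only [Bool.or_eq_true, Bool.and_eq_true, decide_eq_true_eq] at h2
  rcases h2 with (h2 | h2) | h2
  · exact absurd h2 hne
  · exact absurd h2 hneg
  · exact h2

/-- the properties of the pairing, from the check -/
theorem pfacts_of_check {K : Type*} [Field K] {D : ChevalleyDatum} {T : FD} {Bs : List ℕ}
    {gH : ℕ} {baseH : List ℕ} {fuel : ℕ} (C : StCtx K D T Bs gH baseH fuel)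
    (h : pfb D = true) : Ext.PFacts D := by
  have key : ∀ r < D.nroots, pairD D r r = 2 ∧ ∀ s < D.nroots, s ≠ r → s ≠ D.neg r →
      pairD D s r = 0 ∨ (1 ≤ pairD D s r * pairD D r s ∧ pairD D s r * pairD D r s ≤ 3) := by
    apply reach_all C.hA (fun r => pairD D r r = 2 ∧ ∀ s < D.nroots, s ≠ r → s ≠ D.neg r →
      pairD D s r = 0 ∨ (1 ≤ pairD D s r * pairD D r s ∧ pairD D s r * pairD D r s ≤ 3))
      Bs gH baseH fuel C.hr
    · intro s hs
      obtain ⟨j, hj, rfl⟩ := C.hbase s hs
      exact pfb_spec h j hj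
    · intro i hi s hs
      exact ((C.hB i hi).cert C.hA).w_lt s hs
    · intro i hi r hr hw
      have hcert := (C.hB i hi).cert C.hA
      have hwr := hcert.w_lt r hr
      refine ⟨?_, fun s hs hne hneg => ?_⟩
      · rw [← (C.hB i hi).pair_inv C.hA r r hr hr]
        exact hw.1
      · have hws := hcert.w_lt s hs
        have h1 : wOf (Bs.getD i 0) s ≠ wOf (Bs.getD i 0) r := by
          intro e
          apply hne
          rw [← hcert.w_w s hs, e, hcert.w_w r hr]
        have h2 : wOf (Bs.getD i 0) s ≠ D.neg (wOf (Bs.getD i 0) r) := by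
          intro e
          apply hneg
          rw [FD.neg_eq' C.hA _ hwr, hcert.neg_w r hr] at e
          rw [← hcert.w_w s hs, e, hcert.w_w _ (C.hA.neg_lt r hr), FD.neg_eq' C.hA r hr]
        have := hw.2 _ hws h1 h2
        rw [(C.hB i hi).pair_inv C.hA s r hs hr, (C.hB i hi).pair_inv C.hA r s hr hs] at this
        exact this
  exact ⟨fun r hr => (key r hr).1, fun r hr s hs hne hneg => (key r hr).2 s hs hne hneg⟩

/-- the check that a fundamental root pairs to `± 1` with some coroot -/
def srb (D : ChevalleyDatum) (j : ℕ) : Bool :=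
  (List.range D.nroots).any fun a =>
    decide (pairD D a (D.simple j) = 1) || decide (pairD D a (D.simple j) = -1)

theorem srb_spec {D : ChevalleyDatum} {j : ℕ} (h : srb D j = true) :
    ∃ a < D.nroots, pairD D a (D.simple j) = 1 ∨ pairD D a (D.simple j) = -1 := by
  unfold srb at h
  rw [List.any_eq_true] at h
  obtain ⟨a, ha, h1⟩ := h
  rw [Bool.or_eq_true, decide_eq_true_eq, decide_eq_true_eq] at h1
  exact ⟨a, List.mem_range.1 ha, h1⟩

/-- all the data of a type used for the universality of Steinberg's cover -/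
structure UCtx (K : Type*) [Field K] (D : ChevalleyDatum) (T : FD) (Bs : List ℕ) (gH : ℕ)
    (baseH : List ℕ) (fuel : ℕ) : Prop where
  C : StCtx K D T Bs gH baseH fuel
  pf : pfb D = true
  cw : CommW T D Bs
  gt : tgtb T = true
  rows : ∃ (g1 : ℕ) (base1 : List ℕ) (fuel1 : ℕ), reachb T Bs g1 base1 fuel1 = true ∧
    ∀ r0 ∈ base1, r0 < D.nroots ∧ ∃ (g2 : ℕ) (base2 : List ℕ) (fuel2 : ℕ),
      reachFb T Bs g2 base2 r0 fuel2 = true ∧
      ∀ s ∈ base2, s < D.nroots ∧ (s = r0 ∨ s = D.neg r0 ∨ ∃ L : List ℕ,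
        (∀ i ∈ L, i < D.rank) ∧ D.nroots / 2 ≤ wW' Bs L r0 ∧ D.nroots / 2 ≤ wW' Bs L s)
  sr : ∀ j < D.rank, srb D j = true ∨ (D = chevB2 ∧ j = 1)

end Cfsg.Agent.Lib.Helper5.UC
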