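import Cfsg.Agent.Lib.Helper5.UC.Ext
import Mathlib

/-!
# The canonical lifts of the root elements to a central extension (helper5)
-/

set_option autoImplicit false

namespace Cfsg.Agent.Lib.Helper5.UC

open Cfsg.Lie Cfsg.Agent.Lib.Helper5.Chev Cfsg.Agent.Lib.Helper5.St Cfsg.Agent.Lib.Helper5.Tw
open scoped commutatorElement

namespace Ext

variable {K : Type*} [Field K] {D : ChevalleyDatum} {E : Type*} [Group E] (X : Ext K D E)

/-- a chosen lift -/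
noncomputable def lf (g : GL D.Idx K) : E := by
  classical
  exact if h : ∃ e, X.Ψ e = g then h.choose else 1

theorem lf_spec (g : GL D.Idx K) (hg : g ∈ D.group K) : X.Ψ (X.lf g) = g := by
  have h := X.hsurj g hg
  unfold lf
  rw [dif_pos h]
  exact h.choose_spec

include X in
theorem exists_v0 : ∃ v : K, v ≠ 0 ∧ v ^ 2 ≠ 1 :=
  exists_pow_ne_one X.hK 2 (by norm_num) (by norm_num)

/-- a scalar whose square is not one -/
noncomputable def v0 : K := X.exists_v0.choose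

theorem v0_ne : X.v0 ≠ 0 := X.exists_v0.choose_spec.1

theorem v0_sq : X.v0 ^ 2 ≠ 1 := X.exists_v0.choose_spec.2

theorem v0_sub : X.v0 ^ 2 - 1 ≠ 0 := sub_ne_zero.2 X.v0_sq

/-- the chosen torus element of the root `r` -/
noncomputable def hr (r : ℕ) : GL D.Idx K := X.hU r X.v0

/-- the canonical lift of `x_r(t)` -/
noncomputable def Y (r : ℕ) (t : K) : E :=
  ⁅X.lf (X.hr r), X.lf (X.x r (t / (X.v0 ^ 2 - 1)))⁆

theorem hr_mem (r : ℕ) (hr : r < D.nroots) : X.hr r ∈ D.diagonalSubgroup K :=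
  X.hU_mem r hr _ X.v0_ne

theorem map_lf_hr (r : ℕ) (hr : r < D.nroots) : X.Ψ (X.lf (X.hr r)) = X.hr r :=
  X.lf_spec _ (X.hadd.diagonal_le (X.hr_mem r hr))

theorem map_lf_x (r : ℕ) (t : K) : X.Ψ (X.lf (X.x r t)) = X.x r t :=
  X.lf_spec _ (X.hadd.xU_mem_group r t)

section root

variable (r : ℕ) (hr : r < D.nroots) (hself : pairD D r r = 2) (hSR : X.SR r)

include hr hself in
theorem hr_conj (t : K) : X.hr r * X.x r t * (X.hr r)⁻¹ = X.x r (X.v0 ^ 2 * t) := by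
  unfold Ext.hr
  rw [X.hU_conj r r hr hr _ X.v0_ne, hself, zpow_ofNat]

include hr hself in
theorem map_lf_hr_conj (t : K) :
    X.Ψ (X.lf (X.hr r)) * X.x r t * (X.Ψ (X.lf (X.hr r)))⁻¹ = X.x r (X.v0 ^ 2 * t) := by
  rw [X.map_lf_hr r hr]
  exact X.hr_conj r hr hself t

include hr hself hSR in
/-- the canonical lift does not depend on the torus element -/
theorem Y_eq (a b : E) (h : GL D.Idx K) (hh : h ∈ D.diagonalSubgroup K) (χ : K) (hχ1 : χ ≠ 1)
    (hχ : ∀ t, h * X.x r t * h⁻¹ = X.x r (χ * t)) (ha : X.Ψ a = h) (t : K)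
    (hb : X.Ψ b = X.x r (t / (χ - 1))) : ⁅a, b⁆ = X.Y r t := by
  have hχ' : χ - 1 ≠ 0 := sub_ne_zero.2 hχ1
  have hv := X.v0_sub
  unfold Y
  apply comm_tor_indep X.Ψ X.hc (X.x r) (X.x_add r) hSR (X.lift_x r) a (X.lf (X.hr r)) ?_ χ
    (X.v0 ^ 2) ?_ (X.map_lf_hr_conj r hr hself) b _ (t / ((χ - 1) * (X.v0 ^ 2 - 1))) ?_ ?_
  · rw [ha, X.map_lf_hr r hr]
    exact Frob.diag_commute X.hD _ _ hh (X.hr_mem r hr)
  · intro t'
    rw [ha]
    exact hχ t'
  · rw [hb]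
    congr 1
    field_simp
  · rw [X.map_lf_x]
    congr 1
    field_simp

include hr hself in
theorem map_Y (t : K) : X.Ψ (X.Y r t) = X.x r t := by
  unfold Y
  rw [map_comm_tor X.Ψ (X.x r) (X.x_add r) _ _ (X.map_lf_hr_conj r hr hself) _ _ (X.map_lf_x r _)]
  congr 1
  have hv := X.v0_sub
  field_simp

include hr hself hSR in
theorem Y_add (t u : K) : X.Y r t * X.Y r u = X.Y r (t + u) := by
  unfold Y
  rw [← comm_tor_add X.Ψ (X.x r) (X.x_add r) hSR _ _ (X.map_lf_hr_conj r hr hself) _ _ _ _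
    (X.map_lf_x r _) (X.map_lf_x r _)]
  apply comm_congr X.Ψ X.hc rfl
  rw [map_mul, X.map_lf_x, X.map_lf_x, X.map_lf_x, ← X.x_add, add_div]

include hr hself hSR in
/-- conjugation of the canonical lift by a lift of a torus element -/
theorem Y_tor (a : E) (h : GL D.Idx K) (hh : h ∈ D.diagonalSubgroup K) (χ : K)
    (hχ : ∀ t, h * X.x r t * h⁻¹ = X.x r (χ * t)) (ha : X.Ψ a = h) (t : K) :
    a * X.Y r t * a⁻¹ = X.Y r (χ * t) := by
  have e : a * X.Y r t * a⁻¹ = ⁅a * X.lf (X.hr r) * a⁻¹,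
      a * X.lf (X.x r (t / (X.v0 ^ 2 - 1))) * a⁻¹⁆ := conj_comm _ _ _
  rw [e]
  apply X.Y_eq r hr hself hSR _ _ (X.hr r) (X.hr_mem r hr) (X.v0 ^ 2) X.v0_sq
    (X.hr_conj r hr hself)
  · rw [map_mul, map_mul, map_inv, ha, X.map_lf_hr r hr,
      Frob.diag_commute X.hD _ _ hh (X.hr_mem r hr), mul_assoc, mul_inv_cancel, mul_one]
  · rw [map_mul, map_mul, map_inv, ha, X.map_lf_x, hχ, mul_div_assoc]

end root

variable {T : FD} {Bs : List ℕ} {gH : ℕ} {baseH : List ℕ} {fuel : ℕ}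
  (C : StCtx K D T Bs gH baseH fuel)

include C in
/-- conjugation of the canonical lift by a lift of `n_i` -/
theorem Y_n (i : ℕ) (hi : i < D.rank) (r : ℕ) (hr : r < D.nroots)
    (hself : pairD D r r = 2) (hself' : pairD D (wOf (Bs.getD i 0) r) (wOf (Bs.getD i 0) r) = 2)
    (hSR' : X.SR (wOf (Bs.getD i 0) r)) (n : E) (hn : X.Ψ n = nUi C.hA X.hadd i) (t : K) :
    n * X.Y r t * n⁻¹ = X.Y (wOf (Bs.getD i 0) r) (((etaOf (Bs.getD i 0) r : ℤ) : K) * t) := by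
  have hcert := (C.hB i hi).cert C.hA
  have hwr := hcert.w_lt r hr
  have hη := hcert.eta_sq (F := K) r hr
  have hnorm := nUi_mem_normalizer C.hA X.hadd hi (C.hB i hi) (hform_all' D X.hD)
  have e : n * X.Y r t * n⁻¹ = ⁅n * X.lf (X.hr r) * n⁻¹,
      n * X.lf (X.x r (t / (X.v0 ^ 2 - 1))) * n⁻¹⁆ := conj_comm _ _ _
  rw [e]
  have hh : nUi C.hA X.hadd i * X.hr r * (nUi C.hA X.hadd i)⁻¹ ∈ D.diagonalSubgroup K :=
    (Subgroup.mem_normalizer_iff.1 hnorm _).1 (X.hr_mem r hr)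
  apply X.Y_eq _ hwr hself' hSR' _ _ _ hh (X.v0 ^ 2) X.v0_sq
  · intro t'
    have h1 : (nUi C.hA X.hadd i)⁻¹ * X.x (wOf (Bs.getD i 0) r) t' * nUi C.hA X.hadd i
        = X.x r (((etaOf (Bs.getD i 0) r : ℤ) : K) * t') := by
      have := conjU' C.hA X.hadd hi (C.hB i hi) (wOf (Bs.getD i 0) r) hwr t'
      rw [hcert.w_w r hr] at this
      exact this
    calc nUi C.hA X.hadd i * X.hr r * (nUi C.hA X.hadd i)⁻¹ * X.x (wOf (Bs.getD i 0) r) t' *
          (nUi C.hA X.hadd i * X.hr r * (nUi C.hA X.hadd i)⁻¹)⁻¹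
        = nUi C.hA X.hadd i * (X.hr r * ((nUi C.hA X.hadd i)⁻¹ * X.x (wOf (Bs.getD i 0) r) t' *
            nUi C.hA X.hadd i) * (X.hr r)⁻¹) * (nUi C.hA X.hadd i)⁻¹ := by group
      _ = X.x (wOf (Bs.getD i 0) r) (X.v0 ^ 2 * t') := by
        rw [h1, X.hr_conj r hr hself, X.n_conj C i hi r hr]
        congr 1
        calc ((etaOf (Bs.getD i 0) r : ℤ) : K) * (X.v0 ^ 2 * (((etaOf (Bs.getD i 0) r : ℤ) : K) * t'))
            = (((etaOf (Bs.getD i 0) r : ℤ) : K) * ((etaOf (Bs.getD i 0) r : ℤ) : K)) *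
              (X.v0 ^ 2 * t') := by ring
          _ = X.v0 ^ 2 * t' := by rw [hη, one_mul]
  · rw [map_mul, map_mul, map_inv, hn, X.map_lf_hr r hr]
  · rw [map_mul, map_mul, map_inv, hn, X.map_lf_x, X.n_conj C i hi r hr, mul_div_assoc]

end Ext

end Cfsg.Agent.Lib.Helper5.UC
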